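import Groth.Agent.Grp57.Connected

set_option autoImplicit false
universe u
open CategoryTheory CategoryTheory.Limits MonoidalCategory CartesianMonoidalCategory MonObj GrpObj AlgebraicGeometry

namespace Groth.Agent.Grp57

theorem geometricallyConnected_id {S : Scheme.{u}} : GeometricallyConnected (𝟙 S) :=
  ⟨fun L _ y Z fst snd h => by
    have : IsIso snd := h.isIso_snd_of_isIso
    exact snd.homeomorph.connectedSpace_iff.2
      (inferInstanceAs (ConnectedSpace (PrimeSpectrum L)))⟩

variable {K : Type u} [Field K] (G : Over (Spec (CommRingCat.of K))) [GrpObj G]

/-- the preimage of the identity component in the base change to the algebraic closure -/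
theorem preimage_connectedComponent_unit :
    proj G (algebraMap K (AlgebraicClosure K)) ⁻¹' connectedComponent (unitPt G) =
      irreducibleComponent (unitPt (bc G (algebraMap K (AlgebraicClosure K)))) := by
  set σ := algebraMap K (AlgebraicClosure K)
  have hh := connectedComponent_eq (irreducibleComponent_mem_irreducibleComponents (unitPt (bc G σ)))
    mem_irreducibleComponent
  refine Set.Subset.antisymm ?_ ?_
  · have : GeometricallyConnected (η[G].left ≫ G.hom) := by
      rw [Over.w η[G]]
      exact geometricallyConnected_id
    have hc := FBase64.isConnected_preimage_of_geometricallyConnected_source G.hom η[G].left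
      (s := connectedComponent (unitPt G)) isPreconnected_connectedComponent
      (by
        rintro _ ⟨z, rfl⟩
        rw [show η[G].left z = unitPt G from
          congrArg η[G].left (Subsingleton.elim (α := PrimeSpectrum K) _ _)]
        exact mem_connectedComponent)
      (IsLocalRing.closedPoint K) σ
    rw [← hh]
    exact hc.isPreconnected.subset_connectedComponent
      (by rw [Set.mem_preimage, proj_unitPt]; exact mem_connectedComponent)
  · rw [← hh, ← proj_unitPt σ]
    exact (proj G σ).continuous.mapsTo_connectedComponent _

theorem connectedComponent_unit :
    IsIrreducible (connectedComponent (unitPt G)) ∧ IsCompact (connectedComponent (unitPt G)) := by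
  set σ := algebraMap K (AlgebraicClosure K)
  rw [← Set.image_preimage_eq (connectedComponent (unitPt G)) (proj_surjective σ),
    preimage_connectedComponent_unit]
  exact ⟨isIrreducible_irreducibleComponent.image _ (proj G σ).continuous.continuousOn,
    (isCompact_unit_component (irreducibleComponent_mem_irreducibleComponents _)
      mem_irreducibleComponent).image (proj G σ).continuous⟩

/-- the identity component is geometrically irreducible -/
theorem isIrreducible_preimage_connectedComponent_unit {L : Type u} [Field L] (τ : K →+* L) :
    IsIrreducible (proj G τ ⁻¹' connectedComponent (unitPt G)) :=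
  FBase64.isIrreducible_preimage_of_sepClosed G.hom (algebraMap K (AlgebraicClosure K))
    (by rw [show _ = _ from preimage_connectedComponent_unit G]; exact isIrreducible_irreducibleComponent) τ

theorem component_eq_connectedComponent {Z : Set G.left}
    (hZ : Z ∈ irreducibleComponents (G.left : Type u)) (he : unitPt G ∈ Z) :
    Z = connectedComponent (unitPt G) :=
  (hZ.1.isConnected.isPreconnected.subset_connectedComponent he).antisymm
    (hZ.2 (connectedComponent_unit G).1 (hZ.1.isConnected.isPreconnected.subset_connectedComponent he))

theorem exists_clopen_compact :
    ∃ O : Set G.left, IsClopen O ∧ IsCompact O ∧ unitPt G ∈ O := by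
  set σ := algebraMap K (AlgebraicClosure K)
  obtain ⟨_, ⟨U, hU, rfl⟩, heU, -⟩ :=
    (bc G σ).left.isBasis_affineOpens.exists_subset_of_mem_open
      (Set.mem_univ (unitPt (bc G σ))) isOpen_univ
  obtain ⟨hc, hq⟩ := isClopen_union_components (G := bc G σ)
    (irreducibleComponent_mem_irreducibleComponents _) mem_irreducibleComponent
    (V := U) hU.isCompact
  refine ⟨_, ⟨FBase64.isClosedMap_fst G.hom _ hc.1, proj_isOpenMap σ _ hc.2⟩,
    hq.image (proj G σ).continuous, unitPt (bc G σ), ?_, proj_unitPt σ⟩
  exact subset_image_mul_right (C := irreducibleComponent (unitPt (bc G σ))) heU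
    mem_irreducibleComponent

end Groth.Agent.Grp57
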