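import Groth.Agent.Grp57.Irreducible
import Mathlib.AlgebraicGeometry.Morphisms.Immersion

set_option autoImplicit false
universe u
open CategoryTheory CategoryTheory.Limits MonoidalCategory CartesianMonoidalCategory MonObj GrpObj AlgebraicGeometry

namespace Groth.Agent.Grp57

variable {K : Type u} [Field K]

theorem mem_closure_fibre {X Y : Scheme.{u}} (f : X ⟶ Spec (CommRingCat.of K))
    (g : Y ⟶ Spec (CommRingCat.of K)) {R : Set Y} {w : ↥(pullback f g)}
    (hw : pullback.snd f g w ∈ closure R) :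
    w ∈ closure (pullback.fst f g ⁻¹' {pullback.fst f g w} ∩ pullback.snd f g ⁻¹' R) := by
  obtain ⟨L, _, σ, a, hσ, ha⟩ := exists_fibre f (pullback.fst f g w)
  let t := Spec.map (CommRingCat.ofHom σ)
  let j : pullback t g ⟶ pullback f g :=
    pullback.map t g f g a (𝟙 Y) (𝟙 _) (by simpa using hσ.symm) (by simp)
  have hj : ∀ x, pullback.snd f g (j x) = pullback.snd t g x := fun x => by
    rw [← Scheme.Hom.comp_apply, show j ≫ pullback.snd f g = pullback.snd t g from
      (pullback.lift_snd _ _ _).trans (Category.comp_id _)]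
  have hrange : Set.range j = pullback.fst f g ⁻¹' {pullback.fst f g w} := by
    rw [Scheme.Pullback.range_map, ha]; simp
  obtain ⟨x, hx⟩ : w ∈ Set.range j := hrange ▸ (rfl : pullback.fst f g w = _)
  have h2 : x ∈ closure (pullback.snd t g ⁻¹' R) := by
    rw [← (pullback.snd t g).isOpenMap.preimage_closure_eq_closure_preimage
      (pullback.snd t g).continuous, Set.mem_preimage, ← hj, hx]
    exact hw
  rw [← hx]
  refine map_mem_closure j.continuous h2 fun y hy => ⟨?_, by rw [Set.mem_preimage, hj]; exact hy⟩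
  rw [hx]
  exact hrange.le ⟨y, rfl⟩

variable {G : Over (Spec (CommRingCat.of K))} [GrpObj G]

theorem exists_pair' (x y : G.left) :
    ∃ w : (G ⊗ G).left, (fst G G).left w = x ∧ (snd G G).left w = y := by
  obtain ⟨w, h1, h2⟩ := Scheme.Pullback.exists_preimage_pullback (f := G.hom) (g := G.hom) x y
    (Subsingleton.elim (α := PrimeSpectrum K) _ _)
  exact ⟨w, h1, h2⟩

theorem left_apply' {X Y Z : Over (Spec (CommRingCat.of K))} (f : X ⟶ Y) (g : Y ⟶ Z) (h : X ⟶ Z)
    (e : f ≫ g = h) (x : X.left) : g.left (f.left x) = h.left x := by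
  subst e; rfl

theorem mul_image_dense (U V : G.left.Opens) (hU : Dense (U : Set G.left)) (hV : (V : Set G.left).Nonempty) :
    μ[G].left '' ((fst G G).left ⁻¹' (U : Set G.left) ∩ (snd G G).left ⁻¹' (V : Set G.left)) =
      Set.univ := by
  refine Set.eq_univ_of_forall fun x => ?_
  obtain ⟨v, hv⟩ := hV
  obtain ⟨r, hr1, hr2⟩ := exists_pair' x v
  let σ : G ⊗ G ⟶ G ⊗ G := lift (fst G G) (fst G G * (snd G G)⁻¹)
  let ψ : G ⊗ G ⟶ G := (snd G G)⁻¹ * fst G G
  have h0 : (fst G G).left (σ.left r) = x := by rw [left_apply' _ _ _ (lift_fst _ _)]; exact hr1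
  have h1 : ψ.left (σ.left r) = v := by
    rw [left_apply' _ _ (snd G G) (by simp [σ, ψ, comp_mul, GrpObj.comp_inv])]; exact hr2
  obtain ⟨w, hwV, hw1, hw2⟩ := mem_closure_iff.1
    (mem_closure_fibre G.hom G.hom (R := (U : Set G.left)) (w := σ.left r) (hU _))
    (ψ.left ⁻¹' V) (V.isOpen.preimage ψ.left.continuous) (by rw [Set.mem_preimage, h1]; exact hv)
  refine ⟨(lift (snd G G) ψ).left w, ⟨?_, ?_⟩, ?_⟩
  · rw [Set.mem_preimage, left_apply' _ _ _ (lift_fst _ _)]; exact hw2
  · rw [Set.mem_preimage, left_apply' _ _ _ (lift_snd _ _)]; exact hwV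
  · rw [left_apply' _ _ (fst G G) (by rw [← Hom.mul_def]; exact mul_inv_cancel_left _ _)]
    exact (show (fst G G).left w = _ from hw1).trans h0

variable {H : Over (Spec (CommRingCat.of K))} [GrpObj H] (ψ : H ⟶ G) [IsMonHom ψ]

theorem range_mem_of_pair {θG : G ⊗ G ⟶ G} {θH : H ⊗ H ⟶ H}
    (e : (ψ ⊗ₘ ψ) ≫ θG = θH ≫ ψ) {w : (G ⊗ G).left}
    (h1 : (fst G G).left w ∈ Set.range ψ.left) (h2 : (snd G G).left w ∈ Set.range ψ.left) :
    θG.left w ∈ Set.range ψ.left := by
  have he : (ψ ⊗ₘ ψ).left = pullback.map H.hom H.hom G.hom G.hom ψ.left ψ.left (𝟙 _)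
      (by simp) (by simp) := by
    apply pullback.hom_ext
    · rw [pullback.lift_fst]; simp
    · rw [pullback.lift_snd]; simp
  obtain ⟨x, rfl⟩ : w ∈ Set.range (ψ ⊗ₘ ψ).left := by
    rw [he, Scheme.Pullback.range_map]; exact ⟨h1, h2⟩
  exact ⟨θH.left x, by rw [left_apply' _ _ _ e.symm]; rfl⟩

theorem closure_range_mem_of_pair {θG : G ⊗ G ⟶ G} {θH : H ⊗ H ⟶ H}
    (e : (ψ ⊗ₘ ψ) ≫ θG = θH ≫ ψ) {w : (G ⊗ G).left}
    (h1 : (fst G G).left w ∈ closure (Set.range ψ.left))
    (h2 : (snd G G).left w ∈ closure (Set.range ψ.left)) :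
    θG.left w ∈ closure (Set.range ψ.left) := by
  refine mem_closure_iff.2 fun W hW hwW => ?_
  obtain ⟨w', hw'W, hw'1, hw'2⟩ := mem_closure_iff.1 (mem_closure_fibre G.hom G.hom (w := w) h2)
    (θG.left ⁻¹' W) (hW.preimage θG.left.continuous) hwW
  have h1' : (fst G G).left w' ∈ closure (Set.range ψ.left) := by
    rw [show (fst G G).left w' = _ from hw'1]; exact h1
  let s := pullbackSymmetry G.hom G.hom
  have hs : ∀ z, pullback.fst G.hom G.hom (s.hom z) = pullback.snd G.hom G.hom z := fun z => by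
    rw [← Scheme.Hom.comp_apply, pullbackSymmetry_hom_comp_fst]
  have hs' : ∀ z, pullback.snd G.hom G.hom (s.hom z) = pullback.fst G.hom G.hom z := fun z => by
    rw [← Scheme.Hom.comp_apply, pullbackSymmetry_hom_comp_snd]
  obtain ⟨z, hzW, hz1, hz2⟩ := mem_closure_iff.1
    (mem_closure_fibre G.hom G.hom (w := s.hom w') (by rw [hs']; exact h1'))
    ((fun z => θG.left (s.hom z)) ⁻¹' W) (hW.preimage (θG.left.continuous.comp s.hom.continuous))
    (by
      show θG.left (s.hom (s.hom w')) ∈ W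
      rw [← Scheme.Hom.comp_apply s.hom s.hom, show s.hom ≫ s.hom = 𝟙 _ from by
        apply pullback.hom_ext <;> simp [s]]
      exact hw'W)
  refine ⟨θG.left (s.hom z), hzW, range_mem_of_pair ψ e ?_ ?_⟩
  · exact (hs z).symm ▸ hz2
  · have : pullback.fst G.hom G.hom z = pullback.snd G.hom G.hom w' := hz1.trans (hs w')
    exact ((hs' z).trans this).symm ▸ hw'2

/-- a locally closed range of a homomorphism of group schemes over a field is closed -/
theorem isClosed_range_of_isLocallyClosed (h : IsLocallyClosed (Set.range ψ.left)) :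
    IsClosed (Set.range ψ.left) := by
  set R := Set.range ψ.left with hR
  obtain ⟨U, hU, hRU⟩ : ∃ U : Set G.left, IsOpen U ∧ R = U ∩ closure R := by
    obtain ⟨U, Z, hU, hZ, he⟩ := h
    refine ⟨U, hU, Set.Subset.antisymm
      (Set.subset_inter (he ▸ Set.inter_subset_left) subset_closure) fun y hy => ?_⟩
    exact he ▸ ⟨hy.1, hZ.closure_subset_iff.2 (he ▸ Set.inter_subset_right) hy.2⟩
  refine isClosed_of_closure_subset fun x hx => ?_
  have he1 : (ψ ⊗ₘ ψ) ≫ (fst G G * (snd G G)⁻¹) = (fst H H * (snd H H)⁻¹) ≫ ψ := by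
    simp [comp_mul, GrpObj.comp_inv, mul_comp, GrpObj.inv_comp]
  have he2 : (ψ ⊗ₘ ψ) ≫ ((snd G G)⁻¹ * fst G G) = ((snd H H)⁻¹ * fst H H) ≫ ψ := by
    simp [comp_mul, GrpObj.comp_inv, mul_comp, GrpObj.inv_comp]
  have he3 : (ψ ⊗ₘ ψ) ≫ (fst G G * snd G G) = (fst H H * snd H H) ≫ ψ := by
    simp [comp_mul, mul_comp]
  obtain ⟨v, hv⟩ : R.Nonempty := ⟨_, η[H].left (IsLocalRing.closedPoint K), rfl⟩
  obtain ⟨r, hr1, hr2⟩ := exists_pair' x v
  let σ : G ⊗ G ⟶ G ⊗ G := lift (fst G G) (fst G G * (snd G G)⁻¹)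
  let φ : G ⊗ G ⟶ G := (snd G G)⁻¹ * fst G G
  have h0 : (fst G G).left (σ.left r) = x := by rw [left_apply' _ _ _ (lift_fst _ _)]; exact hr1
  have h1 : φ.left (σ.left r) = v := by
    rw [left_apply' _ _ (snd G G) (by simp [σ, φ, comp_mul, GrpObj.comp_inv])]; exact hr2
  have h2 : (snd G G).left (σ.left r) ∈ closure R := by
    rw [left_apply' _ _ _ (lift_snd _ _)]
    exact closure_range_mem_of_pair ψ he1 (by rw [hr1]; exact hx) (by rw [hr2]; exact subset_closure hv)
  obtain ⟨w, hwU, hw1, hw2⟩ := mem_closure_iff.1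
    (mem_closure_fibre G.hom G.hom (R := R) (w := σ.left r) h2)
    (φ.left ⁻¹' U) (hU.preimage φ.left.continuous)
    (by rw [Set.mem_preimage, h1]; exact (hRU.le hv).1)
  have hw1' : (fst G G).left w = x := (show (fst G G).left w = _ from hw1).trans h0
  have hφ : φ.left w ∈ R := hRU.ge ⟨hwU,
    closure_range_mem_of_pair ψ he2 (by rw [hw1']; exact hx) (subset_closure hw2)⟩
  have := range_mem_of_pair ψ he3 (w := (lift (snd G G) φ).left w)
    (by rw [left_apply' _ _ _ (lift_fst _ _)]; exact hw2)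
    (by rw [left_apply' _ _ _ (lift_snd _ _)]; exact hφ)
  rw [left_apply' _ _ (fst G G) (by simp [φ, comp_mul]), hw1'] at this
  exact this

end Groth.Agent.Grp57
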