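import Groth.Agent.Grp57.Irreducible
import Groth.Agent.FBase64.Geometric
import Mathlib.Topology.Clopen
import Mathlib.FieldTheory.IsAlgClosed.AlgebraicClosure

set_option autoImplicit false
universe u
open CategoryTheory CategoryTheory.Limits MonoidalCategory CartesianMonoidalCategory MonObj GrpObj AlgebraicGeometry

namespace Groth.Agent.Grp57

theorem isSeparated_of_field {K : Type u} [Field K] (G : Over (Spec (CommRingCat.of K))) [GrpObj G] :
    IsSeparated G.hom :=
  isSeparated_iff.2 (isClosedImmersion_of_comp_eq_id (Y := Spec (CommRingCat.of K)) G.hom η[G].left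
    (Over.w _))

section SepClosed
variable {K : Type u} [Field K] [IsSepClosed K] {G : Over (Spec (CommRingCat.of K))} [GrpObj G]
variable {Z : Set G.left} (hZ : Z ∈ irreducibleComponents (G.left : Type u)) (he : unitPt G ∈ Z)

include hZ he

omit [IsSepClosed K] in
theorem exists_pair (x y : G.left) :
    ∃ w : (G ⊗ G).left, (fst G G).left w = x ∧ (snd G G).left w = y := by
  obtain ⟨w, h1, h2⟩ := Scheme.Pullback.exists_preimage_pullback (f := G.hom) (g := G.hom) x y
    (Subsingleton.elim (α := PrimeSpectrum K) _ _)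
  exact ⟨w, h1, h2⟩

theorem mul_mem_component {C : Set G.left} (hC : C ∈ irreducibleComponents (G.left : Type u))
    {w : (G ⊗ G).left} (h1 : (fst G G).left w ∈ Z) (h2 : (snd G G).left w ∈ C) :
    μ[G].left w ∈ C :=
  hC.2 (isIrreducible_image_prod (T := G) μ hZ.1 hC.1 (isClosed_of_mem_irreducibleComponents _ hC))
    (subset_image_mul_left he) ⟨w, ⟨h1, h2⟩, rfl⟩

/-- `C * C⁻¹ ⊆ Z` for every component `C` -/
theorem div_mem_unit_component {C : Set G.left} (hC : C ∈ irreducibleComponents (G.left : Type u))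
    {w : (G ⊗ G).left} (h1 : (fst G G).left w ∈ C) (h2 : (snd G G).left w ∈ C) :
    (fst G G * (snd G G)⁻¹).left w ∈ Z := by
  refine subset_component uniqueComp_unit_sepClosed hZ he
    (isIrreducible_image_prod (fst G G * (snd G G)⁻¹) hC.1 hC.1
      (isClosed_of_mem_irreducibleComponents _ hC))
    ?_ ⟨w, ⟨h1, h2⟩, rfl⟩
  obtain ⟨c, hc⟩ := hC.1.nonempty
  refine ⟨(lift (𝟙 G) (𝟙 G)).left c, ⟨?_, ?_⟩, ?_⟩
  · rw [Set.mem_preimage, left_apply _ _ _ (lift_fst _ _)]; exact hc
  · rw [Set.mem_preimage, left_apply _ _ _ (lift_snd _ _)]; exact hc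
  · rw [left_apply _ _ (1 : G ⟶ G) (by simp [comp_mul, GrpObj.comp_inv]), one_apply]

theorem subset_image_mul_of_mem {C : Set G.left} (hC : C ∈ irreducibleComponents (G.left : Type u))
    {v : G.left} (hv : v ∈ C) :
    C ⊆ μ[G].left '' ((fst G G).left ⁻¹' Z ∩ (snd G G).left ⁻¹' {v}) := fun x hx => by
  obtain ⟨w, hw1, hw2⟩ := exists_pair hZ he x v
  refine ⟨(lift (fst G G * (snd G G)⁻¹) (snd G G)).left w, ⟨?_, ?_⟩, ?_⟩
  · rw [Set.mem_preimage, left_apply _ _ _ (lift_fst _ _)]
    exact div_mem_unit_component hZ he hC (hw1 ▸ hx) (hw2 ▸ hv)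
  · rw [Set.mem_preimage, left_apply _ _ _ (lift_snd _ _)]; exact hw2
  · rw [left_apply _ _ (fst G G) (by rw [← Hom.mul_def, inv_mul_cancel_right])]; exact hw1

omit hZ he in
theorem isCompact_prod {V W : G.left.Opens} (hV : IsCompact (V : Set G.left))
    (hW : IsCompact (W : Set G.left)) :
    IsCompact ((fst G G).left ⁻¹' (V : Set G.left) ∩ (snd G G).left ⁻¹' (W : Set G.left)) := by
  let m : pullback (V.ι ≫ G.hom) (W.ι ≫ G.hom) ⟶ pullback G.hom G.hom :=
    pullback.map _ _ _ _ V.ι W.ι (𝟙 _) (by simp) (by simp)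
  have hr : Set.range m = (fst G G).left ⁻¹' (V : Set G.left) ∩ (snd G G).left ⁻¹' (W : Set G.left) := by
    rw [Scheme.Pullback.range_map, Scheme.Opens.range_ι, Scheme.Opens.range_ι]; rfl
  have : CompactSpace (↑V : Scheme.{u}) := isCompact_iff_compactSpace.1 hV
  have : CompactSpace (↑W : Scheme.{u}) := isCompact_iff_compactSpace.1 hW
  have : CompactSpace ↥(pullback (V.ι ≫ G.hom) (W.ι ≫ G.hom)) :=
    QuasiCompact.compactSpace_of_compactSpace (pullback.fst (V.ι ≫ G.hom) (W.ι ≫ G.hom))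
  rw [← hr]
  exact isCompact_range m.continuous

theorem isCompact_unit_component : IsCompact Z := by
  obtain ⟨_, ⟨U, hUa, rfl⟩, heU, -⟩ := G.left.isBasis_affineOpens.exists_subset_of_mem_open
    (Set.mem_univ (unitPt G)) isOpen_univ
  refine ((isCompact_prod hUa.isCompact hUa.isCompact).image μ[G].left.continuous).of_isClosed_subset
    (isClosed_of_mem_irreducibleComponents _ hZ) fun x hx => ?_
  let A := (fst G G).left ⁻¹' {x} ∩ (snd G G).left ⁻¹' Z
  have hA : IsIrreducible A :=
    isIrreducible_prod G.hom G.hom isIrreducible_singleton hZ.1 (isClosed_of_mem_irreducibleComponents _ hZ)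
  let ψ : G ⊗ G ⟶ G := (snd G G)⁻¹ * fst G G
  obtain ⟨w, hwA, hw1, hw2⟩ := hA.isPreirreducible ((snd G G).left ⁻¹' U) (ψ.left ⁻¹' U)
    (U.isOpen.preimage (snd G G).left.continuous) (U.isOpen.preimage ψ.left.continuous)
    ⟨(lift (𝟙 G) (1 : G ⟶ G)).left x,
      ⟨by rw [Set.mem_preimage, left_apply _ _ _ (lift_fst _ _)]; rfl,
       by rw [Set.mem_preimage, left_apply _ _ _ (lift_snd _ _), one_apply]; exact he⟩,
       by rw [Set.mem_preimage, left_apply _ _ _ (lift_snd _ _), one_apply]; exact heU⟩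
    ⟨(lift (𝟙 G) (𝟙 G)).left x,
      ⟨by rw [Set.mem_preimage, left_apply _ _ _ (lift_fst _ _)]; rfl,
       by rw [Set.mem_preimage, left_apply _ _ _ (lift_snd _ _)]; exact hx⟩,
       by rw [Set.mem_preimage, left_apply _ _ (1 : G ⟶ G) (by simp [ψ, comp_mul, GrpObj.comp_inv]),
            one_apply]; exact heU⟩
  refine ⟨(lift (snd G G) ψ).left w, ⟨?_, ?_⟩, ?_⟩
  · rw [Set.mem_preimage, left_apply _ _ _ (lift_fst _ _)]; exact hw1
  · rw [Set.mem_preimage, left_apply _ _ _ (lift_snd _ _)]; exact hw2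
  · rw [left_apply _ _ (fst G G) (by rw [← Hom.mul_def]; exact mul_inv_cancel_left _ _)]
    exact hwA.1

theorem isClopen_union_components {V : G.left.Opens} (hV : IsCompact (V : Set G.left)) :
    IsClopen (μ[G].left '' ((fst G G).left ⁻¹' Z ∩ (snd G G).left ⁻¹' (V : Set G.left))) ∧
      IsCompact (μ[G].left '' ((fst G G).left ⁻¹' Z ∩ (snd G G).left ⁻¹' (V : Set G.left))) := by
  set O := μ[G].left '' ((fst G G).left ⁻¹' Z ∩ (snd G G).left ⁻¹' (V : Set G.left)) with hO
  have hcl := isClosed_of_mem_irreducibleComponents Z hZ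
  have hopen : IsOpen O := by
    let I := Scheme.IdealSheafData.vanishingIdeal ⟨Z, hcl⟩
    let f : Over.mk (I.subschemeι ≫ G.hom) ⟶ G := Over.homMk I.subschemeι rfl
    let g : Over.mk (V.ι ≫ G.hom) ⟶ G := Over.homMk V.ι rfl
    have hr : O = Set.range ((f ⊗ₘ g) ≫ μ[G]).left := by
      rw [hO, Over.comp_left, Scheme.Hom.comp_base, TopCat.coe_comp, Set.range_comp]
      congr 1
      have h : ((f ⊗ₘ g).left : _ ⟶ (G ⊗ G).left) = pullback.map (I.subschemeι ≫ G.hom)
          (V.ι ≫ G.hom) G.hom G.hom I.subschemeι V.ι (𝟙 _) (by simp) (by simp) := by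
        apply pullback.hom_ext
        · rw [pullback.lift_fst]; simp [f, g]
        · rw [pullback.lift_snd]; simp [f, g]
      rw [h, Scheme.Pullback.range_map, Scheme.IdealSheafData.range_subschemeι, Scheme.Opens.range_ι,
        Scheme.IdealSheafData.coe_support_vanishingIdeal]
      rfl
    rw [hr]
    exact isOpen_range_translate V I.subschemeι
  have hcpt : IsCompact O := by
    obtain ⟨W, hW, hZW⟩ : ∃ W : G.left.Opens, IsCompact (W : Set G.left) ∧ Z ⊆ (W : Set G.left) := by
      obtain ⟨s, hs⟩ := (isCompact_unit_component hZ he).elim_finite_subcover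
        (fun U : G.left.affineOpens => (U : Set G.left)) (fun U => U.1.isOpen) (fun x _ => by
          obtain ⟨_, ⟨U, hU, rfl⟩, hxU, -⟩ := G.left.isBasis_affineOpens.exists_subset_of_mem_open
            (Set.mem_univ x) isOpen_univ
          exact Set.mem_iUnion.2 ⟨⟨U, hU⟩, hxU⟩)
      refine ⟨⨆ U ∈ s, U.1, ?_, ?_⟩
      · rw [TopologicalSpace.Opens.coe_iSup]
        simp only [TopologicalSpace.Opens.coe_iSup]
        exact s.isCompact_biUnion fun U _ => U.2.isCompact
      · simpa using hs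
    refine IsCompact.image ?_ μ[G].left.continuous
    convert (isCompact_prod hW hV).inter_left (hcl.preimage (fst G G).left.continuous) using 1
    ext w
    exact ⟨fun h => ⟨h.1, hZW h.1, h.2⟩, fun h => ⟨h.1, h.2.2⟩⟩
  have hqc : QuasiCompact (Scheme.Opens.ι ⟨O, hopen⟩) := by
    have : IsSeparated G.hom := isSeparated_of_field G
    have : CompactSpace (↑(⟨O, hopen⟩ : G.left.Opens) : Scheme.{u}) := isCompact_iff_compactSpace.1 hcpt
    have : QuasiCompact (Scheme.Opens.ι ⟨O, hopen⟩ ≫ G.hom) := inferInstance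
    exact QuasiCompact.of_comp _ G.hom
  refine ⟨⟨?_, hopen⟩, hcpt⟩
  refine isClosed_of_closure_subset fun x hx => ?_
  obtain ⟨y, hy⟩ := SchBasics.exists_specializes_of_mem_closure_range
    (Scheme.Opens.ι (⟨O, hopen⟩ : G.left.Opens)) (y := x) (by rw [Scheme.Opens.range_ι]; exact hx)
  obtain ⟨w, ⟨hw1, hw2⟩, hwy⟩ : (Scheme.Opens.ι (⟨O, hopen⟩ : G.left.Opens)) y ∈ O :=
    (Scheme.Opens.range_ι (⟨O, hopen⟩ : G.left.Opens)).le ⟨y, rfl⟩
  obtain ⟨C, hC, hvC⟩ : ∃ C ∈ irreducibleComponents (G.left : Type u), (snd G G).left w ∈ C :=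
    ⟨_, irreducibleComponent_mem_irreducibleComponents _, mem_irreducibleComponent⟩
  have hxC : x ∈ C := (isClosed_of_mem_irreducibleComponents C hC).closure_subset_iff.2
    (Set.singleton_subset_iff.2 (mul_mem_component hZ he hC hw1 hvC))
    (specializes_iff_mem_closure.1 (hwy ▸ hy))
  obtain ⟨w', ⟨h1, h2⟩, rfl⟩ := subset_image_mul_of_mem hZ he hC hvC hxC
  exact ⟨w', ⟨h1, by rw [Set.mem_preimage, show (snd G G).left w' = _ from h2]; exact hw2⟩, rfl⟩

omit hZ he in
/-- over a separably closed field the connected components are the irreducible components -/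
theorem connectedComponent_eq {C : Set G.left} (hC : C ∈ irreducibleComponents (G.left : Type u))
    {x : G.left} (hx : x ∈ C) : connectedComponent x = C := by
  refine (Set.Subset.antisymm ?_ (hC.1.isConnected.isPreconnected.subset_connectedComponent hx))
  intro y hy
  by_contra hyC
  obtain ⟨γ, hγ⟩ := QuasiSober.sober hC.1 (isClosed_of_mem_irreducibleComponents C hC)
  have hγy : γ ∈ (irreducibleComponent y)ᶜ := fun h => hyC (by
    rw [uniqueComp γ C hC _ (irreducibleComponent_mem_irreducibleComponents y) hγ.mem h]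
    exact mem_irreducibleComponent)
  obtain ⟨_, ⟨V, hVa, rfl⟩, hγV, hVsub⟩ := G.left.isBasis_affineOpens.exists_subset_of_mem_open
    hγy isClosed_irreducibleComponent.isOpen_compl
  obtain ⟨hZ, he⟩ : irreducibleComponent (unitPt G) ∈ irreducibleComponents (G.left : Type u) ∧
      unitPt G ∈ irreducibleComponent (unitPt G) :=
    ⟨irreducibleComponent_mem_irreducibleComponents _, mem_irreducibleComponent⟩
  obtain ⟨w, ⟨hw1, hw2⟩, hw3⟩ := (isClopen_union_components hZ he hVa.isCompact).1.connectedComponent_subset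
    (x := x) (by
      obtain ⟨w, ⟨hw1, hw2⟩, hw3⟩ := subset_image_mul_of_mem hZ he hC hγ.mem hx
      exact ⟨w, ⟨hw1, by rw [Set.mem_preimage, show (snd G G).left w = _ from hw2]; exact hγV⟩, hw3⟩) hy
  obtain ⟨D, hD, hwD⟩ : ∃ D ∈ irreducibleComponents (G.left : Type u), (snd G G).left w ∈ D :=
    ⟨_, irreducibleComponent_mem_irreducibleComponents _, mem_irreducibleComponent⟩
  have hyD : y ∈ D := hw3 ▸ mul_mem_component hZ he hD hw1 hwD
  exact hVsub hw2 (uniqueComp y _ (irreducibleComponent_mem_irreducibleComponents y) D hD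
    mem_irreducibleComponent hyD ▸ hwD)

end SepClosed

end Groth.Agent.Grp57
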