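import Groth.Agent.Grp57.Component
import Groth.Agent.FlatMor68.PureClosed
import Groth.Agent.SGA3a.SubGrpOfMono

/-!
The identity component of a group scheme over a field as a flat closed subgroup scheme.
-/

set_option autoImplicit false
set_option backward.isDefEq.respectTransparency.types false
universe u
open CategoryTheory CategoryTheory.Limits MonoidalCategory CartesianMonoidalCategory MonObj GrpObj AlgebraicGeometry

noncomputable section

namespace Groth.Agent.Grp57

variable {K : Type u} [Field K] (G : Over (Spec (CommRingCat.of K))) [GrpObj G]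

theorem stableUnderGeneralization_connectedComponent {X : Type*} [TopologicalSpace X] (x : X) :
    StableUnderGeneralization (connectedComponent x) := by
  intro z w hw hz
  rw [_root_.connectedComponent_eq hz]
  exact isPreconnected_singleton.closure.subset_connectedComponent (specializes_iff_mem_closure.1 hw)
    (subset_closure rfl)

theorem irreducibleSpace_of_range {A B : Type*} [TopologicalSpace A] [TopologicalSpace B] {f : A → B}
    (hf : Topology.IsInducing f) (h : IsIrreducible (Set.range f)) : IrreducibleSpace A := by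
  refine (irreducibleSpace_def _).2 ⟨?_, fun u v hu hv hu' hv' => ?_⟩
  · obtain ⟨_, a, rfl⟩ := h.1
    exact ⟨a, trivial⟩
  · obtain ⟨U, hU, rfl⟩ := hf.isOpen_iff.1 hu
    obtain ⟨V, hV, rfl⟩ := hf.isOpen_iff.1 hv
    obtain ⟨a, -, ha⟩ := hu'
    obtain ⟨b, -, hb⟩ := hv'
    obtain ⟨_, ⟨c, rfl⟩, hc⟩ := h.2 U V hU hV ⟨f a, ⟨a, rfl⟩, ha⟩ ⟨f b, ⟨b, rfl⟩, hb⟩
    exact ⟨c, trivial, hc⟩

theorem exists_identityComponent :
    ∃ (G₀ : Over (Spec (CommRingCat.of K))) (_ : GrpObj G₀) (incl : G₀ ⟶ G) (_ : IsMonHom incl),
      IsClosedImmersion incl.left ∧ Flat incl.left ∧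
      Set.range ⇑incl.left = connectedComponent (η[G].left (IsLocalRing.closedPoint K)) ∧
      GeometricallyIrreducible G₀.hom ∧ CompactSpace ↥G₀.left := by
  set e := unitPt G
  obtain ⟨I, hflat, hsupp⟩ := FlatMor68.PureClosed.exists_idealSheaf (connectedComponent e)
    isClosed_connectedComponent (stableUnderGeneralization_connectedComponent e)
  let G₀ : Over (Spec (CommRingCat.of K)) := Over.mk (I.subschemeι ≫ G.hom)
  let incl : G₀ ⟶ G := Over.homMk I.subschemeι rfl
  have hrange : Set.range incl.left = connectedComponent e := by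
    show Set.range I.subschemeι = _
    rw [Scheme.IdealSheafData.range_subschemeι, hsupp]
  have : IsClosedImmersion incl.left := inferInstanceAs (IsClosedImmersion I.subschemeι)
  have hfac : ∀ {T : Over (Spec (CommRingCat.of K))} (g : T ⟶ G),
      Set.range g.left ⊆ connectedComponent e → ∃ g' : T ⟶ G₀, g' ≫ incl = g := by
    intro T g hg
    obtain ⟨g', hg'⟩ := (FlatMor68.PureClosed.t9351 G.left).2 I hflat T.left g.left (by rwa [hsupp])
    exact ⟨Over.homMk g' (by show g' ≫ I.subschemeι ≫ G.hom = _; rw [reassoc_of% hg', Over.w]),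
      Over.OverMorphism.ext hg'⟩
  have : Mono incl := Over.mono_of_mono_left incl
  have hirr : IrreducibleSpace G₀.left := by
    have hemb : Topology.IsEmbedding incl.left := incl.left.isEmbedding
    have h1 := (connectedComponent_unit G).1
    rw [← hrange] at h1
    exact irreducibleSpace_of_range hemb.isInducing h1
  have hcomp : CompactSpace G₀.left := by
    have hemb : Topology.IsEmbedding incl.left := incl.left.isEmbedding
    have h1 := (connectedComponent_unit G).2
    rw [← hrange, ← Set.image_univ, ← hemb.isInducing.isCompact_iff] at h1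
    exact ⟨h1⟩
  have hgeo : GeometricallyIrreducible G₀.hom := by
    refine ⟨geometrically_iff_of_isClosedUnderIsomorphisms.mpr fun L _ y => ?_⟩
    obtain ⟨φ, rfl⟩ := Spec.map_surjective y
    let j : pullback G₀.hom (Spec.map φ) ⟶ pullback G.hom (Spec.map φ) :=
      pullback.map _ _ _ _ incl.left (𝟙 _) (𝟙 _) (by simp [Over.w incl]) (by simp)
    have hj : IsClosedImmersion j := by
      have h : IsPullback j (pullback.fst _ _) (pullback.fst G.hom (Spec.map φ)) incl.left := by
        refine IsPullback.of_right (h₁₂ := pullback.snd _ _) ?_ (pullback.lift_fst _ _ _)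
          (IsPullback.of_hasPullback G.hom (Spec.map φ)).flip
        rw [Over.w incl, show j ≫ pullback.snd _ _ = pullback.snd _ _ from
          (pullback.lift_snd _ _ _).trans (Category.comp_id _)]
        exact (IsPullback.of_hasPullback G₀.hom (Spec.map φ)).flip
      exact MorphismProperty.of_isPullback h.flip inferInstance
    have hr : Set.range j = pullback.fst G.hom (Spec.map φ) ⁻¹' connectedComponent e := by
      ext z
      constructor
      · rintro ⟨w, rfl⟩
        rw [Set.mem_preimage, ← Scheme.Hom.comp_apply, pullback.lift_fst, ← hrange]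
        exact ⟨_, rfl⟩
      · intro hz
        obtain ⟨a, ha⟩ := hrange.ge hz
        obtain ⟨w, hw1, hw2⟩ := Scheme.Pullback.exists_preimage_pullback (f := incl.left)
          (g := pullback.fst G.hom (Spec.map φ)) a z ha
        have h : IsPullback j (pullback.fst _ _) (pullback.fst G.hom (Spec.map φ)) incl.left := by
          refine IsPullback.of_right (h₁₂ := pullback.snd _ _) ?_ (pullback.lift_fst _ _ _)
            (IsPullback.of_hasPullback G.hom (Spec.map φ)).flip
          rw [Over.w incl, show j ≫ pullback.snd _ _ = pullback.snd _ _ from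
            (pullback.lift_snd _ _ _).trans (Category.comp_id _)]
          exact (IsPullback.of_hasPullback G₀.hom (Spec.map φ)).flip
        refine ⟨h.flip.isoPullback.inv w, ?_⟩
        rw [← Scheme.Hom.comp_apply, h.flip.isoPullback_inv_snd, hw2]
    have h2 := isIrreducible_preimage_connectedComponent_unit G φ.hom
    replace h2 : IsIrreducible (pullback.fst G.hom (Spec.map φ) ⁻¹' connectedComponent e) := h2
    rw [← hr] at h2
    exact irreducibleSpace_of_range j.isEmbedding.isInducing h2
  have h1 : ∃ z, z ≫ incl = (1 : 𝟙_ _ ⟶ G) := hfac _ (by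
    rintro _ ⟨z, rfl⟩
    rw [show (1 : 𝟙_ _ ⟶ G) = η[G] from (MonObj.one_eq_one G).symm]
    rw [show η[G].left z = e from congrArg η[G].left (Subsingleton.elim (α := PrimeSpectrum K) _ _)]
    exact mem_connectedComponent)
  obtain ⟨z₁, hz₁⟩ := h1
  let a₀ : G₀.left := z₁.left (IsLocalRing.closedPoint K)
  have ha₀ : incl.left a₀ = e := by
    show (z₁.left ≫ incl.left) (IsLocalRing.closedPoint K) = _
    rw [← Over.comp_left, hz₁, show (1 : 𝟙_ _ ⟶ G) = η[G] from (MonObj.one_eq_one G).symm]
    rfl
  have hmul : ∃ z, z ≫ incl = (fst G₀ G₀ ≫ incl) * (snd G₀ G₀ ≫ incl) := hfac _ (by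
    have hir : IrreducibleSpace (G₀ ⊗ G₀).left :=
      inferInstanceAs (IrreducibleSpace ↥(pullback G₀.hom G₀.hom))
    have hmem : e ∈ Set.range ((fst G₀ G₀ ≫ incl) * (snd G₀ G₀ ≫ incl)).left := by
      refine ⟨(lift z₁ z₁).left (IsLocalRing.closedPoint K), ?_⟩
      rw [← Scheme.Hom.comp_apply, ← Over.comp_left, MonObj.comp_mul, lift_fst_assoc, lift_snd_assoc, hz₁,
        _root_.one_mul, show (1 : 𝟙_ _ ⟶ G) = η[G] from (MonObj.one_eq_one G).symm]
      rfl
    exact (isPreconnected_range (Scheme.Hom.continuous _)).subset_connectedComponent hmem)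
  have hinv : ∃ z, z ≫ incl = incl⁻¹ := hfac _ (by
    have hmem : e ∈ Set.range (incl⁻¹ : G₀ ⟶ G).left := by
      refine ⟨a₀, ?_⟩
      show (z₁.left ≫ (incl⁻¹ : G₀ ⟶ G).left) (IsLocalRing.closedPoint K) = _
      rw [← Over.comp_left, GrpObj.comp_inv, hz₁, inv_one,
        show (1 : 𝟙_ _ ⟶ G) = η[G] from (MonObj.one_eq_one G).symm]
      rfl
    exact (isPreconnected_range (Scheme.Hom.continuous _)).subset_connectedComponent hmem)
  exact ⟨G₀, SGA3a.grpObjOfMono incl ⟨z₁, hz₁⟩ hmul hinv, incl,
    SGA3a.isMonHom_grpObjOfMono incl ⟨z₁, hz₁⟩ hmul hinv, inferInstance, hflat, hrange, hgeo, hcomp⟩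

end Groth.Agent.Grp57
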