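import Mathlib.AlgebraicGeometry.Group.Abelian
import Mathlib.AlgebraicGeometry.Morphisms.Flat
import Mathlib.AlgebraicGeometry.Morphisms.UniversallyOpen
import Mathlib.CategoryTheory.Monoidal.Cartesian.Over
import Mathlib.CategoryTheory.Monoidal.Cartesian.Grp
import Mathlib.AlgebraicGeometry.Morphisms.Separated
import Mathlib.AlgebraicGeometry.Morphisms.QuasiSeparated
import Mathlib.CategoryTheory.Limits.Constructions.Over.Connected

set_option autoImplicit false
universe u
open CategoryTheory CategoryTheory.Limits MonoidalCategory CartesianMonoidalCategory MonObj GrpObj AlgebraicGeometry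

namespace Groth.Agent.Grp57

section Cat
variable {C : Type*} [Category C] [CartesianMonoidalCategory C] {G T : C} [GrpObj G]

/-- `(t, g) ↦ (t, ψ t * g)` -/
@[simps]
def shear (ψ : T ⟶ G) : T ⊗ G ≅ T ⊗ G where
  hom := lift (fst T G) (fst T G ≫ ψ * snd T G)
  inv := lift (fst T G) ((fst T G ≫ ψ)⁻¹ * snd T G)
  hom_inv_id := by
    ext <;> simp [comp_mul, GrpObj.comp_inv]
  inv_hom_id := by
    ext <;> simp [comp_mul, GrpObj.comp_inv]

theorem translate_eq (ψ : T ⟶ G) : ψ ▷ G ≫ μ[G] = (shear ψ).hom ≫ snd T G := by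
  rw [shear_hom, lift_snd, Hom.mul_def]
  congr 1
  ext <;> simp

theorem isPullback_diag :
    IsPullback (lift (𝟙 G) (𝟙 G)) (toUnit G) (fst G G * (snd G G)⁻¹) η[G] := by
  have w : lift (𝟙 G) (𝟙 G) ≫ (fst G G * (snd G G)⁻¹) = toUnit G ≫ η[G] := by
    simp [comp_mul, GrpObj.comp_inv, Hom.one_def]
  refine ⟨⟨w⟩, ⟨PullbackCone.IsLimit.mk _ (fun s => s.fst ≫ fst G G) (fun s => ?_)
    (fun s => toUnit_unique _ _) (fun s m hm _ => ?_)⟩⟩
  · have h : s.fst ≫ fst G G * (s.fst ≫ snd G G)⁻¹ = 1 := by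
      have h1 := s.condition
      rw [comp_mul, GrpObj.comp_inv, toUnit_unique s.snd (toUnit _)] at h1
      exact h1.trans (Hom.one_def).symm
    ext
    · simp
    · simpa using mul_inv_eq_one.1 h
  · rw [← hm]; simp

end Cat

section Scheme
variable {S : Scheme.{u}} {G T : Over S} [GrpObj G]

theorem translate_prop (P : MorphismProperty Scheme.{u}) [P.IsStableUnderBaseChange]
    (ψ : T ⟶ G) (h : P T.hom) : P (ψ ▷ G ≫ μ[G]).left := by
  have : P.RespectsIso := MorphismProperty.IsStableUnderBaseChange.respectsIso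
  have : IsIso (shear ψ).hom.left := ((Over.forget S).mapIso (shear ψ)).isIso_hom
  rw [translate_eq, Over.comp_left]
  refine (MorphismProperty.cancel_left_of_respectsIso P _ _).2 ?_
  exact MorphismProperty.pullback_snd _ _ h

theorem mul_prop (P : MorphismProperty Scheme.{u}) [P.IsStableUnderBaseChange]
    (h : P G.hom) : P μ[G].left := by
  have := translate_prop P (𝟙 G) h
  rwa [id_whiskerRight, Category.id_comp] at this

theorem diagonal_eq :
    (lift (𝟙 G) (𝟙 G)).left = pullback.diagonal G.hom := by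
  refine pullback.hom_ext ?_ ?_
  · rw [pullback.diagonal_fst]
    exact congrArg Over.Hom.left (lift_fst (𝟙 G) (𝟙 G))
  · rw [pullback.diagonal_snd]
    exact congrArg Over.Hom.left (lift_snd (𝟙 G) (𝟙 G))

theorem isPullback_diagonal :
    IsPullback (pullback.diagonal G.hom) (toUnit G).left (fst G G * (snd G G)⁻¹).left η[G].left := by
  have := (isPullback_diag (G := G)).map (Over.forget S)
  rw [← diagonal_eq]
  exact this

theorem isSeparated_iff : IsSeparated G.hom ↔ IsClosedImmersion η[G].left := by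
  constructor
  · intro h
    have : IsClosedImmersion (η[G].left ≫ G.hom) := by
      rw [Over.w η[G]]; exact inferInstanceAs (IsClosedImmersion (𝟙 S))
    exact IsClosedImmersion.of_comp η[G].left G.hom
  · exact fun h => ⟨MorphismProperty.of_isPullback (isPullback_diagonal).flip h⟩

theorem quasiSeparated_iff : QuasiSeparated G.hom ↔ QuasiCompact η[G].left := by
  constructor
  · intro h
    have : QuasiCompact (η[G].left ≫ G.hom) := by rw [Over.w η[G]]; exact inferInstanceAs (QuasiCompact (𝟙 S))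
    exact QuasiCompact.of_comp η[G].left G.hom
  · exact fun h => ⟨MorphismProperty.of_isPullback (isPullback_diagonal).flip h⟩

end Scheme

section Field
variable {K : Type u} [Field K] {G T : Over (Spec (CommRingCat.of K))} [GrpObj G]

theorem isOpenMap_translate (ψ : T ⟶ G) : IsOpenMap ((ψ ▷ G ≫ μ[G]).left).base :=
  have := translate_prop @UniversallyOpen ψ inferInstance
  Scheme.Hom.isOpenMap _

theorem isOpenMap_mul : IsOpenMap (μ[G].left : (G ⊗ G).left ⟶ G.left).base :=
  have := mul_prop (G := G) @UniversallyOpen inferInstance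
  Scheme.Hom.isOpenMap _

theorem isOpen_range_translate (W : G.left.Opens) {T : Scheme.{u}} (f : T ⟶ G.left) :
    IsOpen (Set.range ⇑(((Over.homMk f rfl : Over.mk (f ≫ G.hom) ⟶ G) ⊗ₘ
      (Over.homMk W.ι rfl : Over.mk (W.ι ≫ G.hom) ⟶ G)) ≫ μ[G]).left) := by
  let ψ : Over.mk (f ≫ G.hom) ⟶ G := Over.homMk f rfl
  let w : Over.mk (W.ι ≫ G.hom) ⟶ G := Over.homMk W.ι rfl
  have e : (ψ ⊗ₘ w) ≫ μ[G] = (Over.mk (f ≫ G.hom) ◁ w) ≫ ψ ▷ G ≫ μ[G] := by
    rw [← Category.assoc, tensorHom_def']
  rw [e, Over.comp_left, Scheme.Hom.comp_base, TopCat.coe_comp, Set.range_comp]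
  refine isOpenMap_translate ψ _ ?_
  have : IsOpenImmersion ((Over.mk (f ≫ G.hom) ◁ w)).left := by
    rw [Over.whiskerLeft_left]
    refine MorphismProperty.pullbackMap (P := @IsOpenImmersion) (f := (Over.mk (f ≫ G.hom)).hom)
      (g := (Over.mk (W.ι ≫ G.hom)).hom) (f' := (Over.mk (f ≫ G.hom)).hom) (g' := G.hom)
      (i₁ := 𝟙 _) (i₂ := w.left) (h₁ := inferInstance) (h₂ := ?_) (e₁ := by simp) (e₂ := (Over.w w).symm)
    exact inferInstanceAs (IsOpenImmersion W.ι)
  exact (Scheme.Hom.isOpenEmbedding _).isOpen_range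

end Field

end Groth.Agent.Grp57
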