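import Groth.Agent.Grp57.Prod
import Groth.Agent.Grp57.Shear
import Groth.Agent.SchBasics.Closure
import Mathlib.FieldTheory.IsAlgClosed.AlgebraicClosure

set_option autoImplicit false
universe u
open CategoryTheory CategoryTheory.Limits MonoidalCategory CartesianMonoidalCategory MonObj GrpObj AlgebraicGeometry

namespace Groth.Agent.Grp57

variable {K : Type u} [Field K] (G : Over (Spec (CommRingCat.of K))) [GrpObj G]

/-- the unit point -/
noncomputable def unitPt : G.left := η[G].left (IsLocalRing.closedPoint K)

/-- base change of a group scheme along a field extension -/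
noncomputable abbrev bc {L : Type u} [Field L] (σ : K →+* L) : Over (Spec (CommRingCat.of L)) :=
  (Over.pullback (Spec.map (CommRingCat.ofHom σ))).obj G

noncomputable instance bcGrp {L : Type u} [Field L] (σ : K →+* L) : GrpObj (bc G σ) :=
  Functor.grpObjObj

/-- projection from the base change -/
noncomputable abbrev proj {L : Type u} [Field L] (σ : K →+* L) : (bc G σ).left ⟶ G.left :=
  pullback.fst G.hom (Spec.map (CommRingCat.ofHom σ))

variable {G}

theorem proj_unit {L : Type u} [Field L] (σ : K →+* L) :
    η[bc G σ].left ≫ proj G σ = Spec.map (CommRingCat.ofHom σ) ≫ η[G].left := by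
  simp [bcGrp, Functor.grpObjObj, proj]
  rw [pullback.lift_fst]
  rw [← Category.assoc (pullback.snd _ _), ← pullback.condition, Category.assoc,
    Category.id_comp]

theorem proj_unitPt {L : Type u} [Field L] (σ : K →+* L) :
    proj G σ (unitPt (bc G σ)) = unitPt G := by
  have h := congr($(proj_unit (G := G) σ) (IsLocalRing.closedPoint L))
  refine (?_ : proj G σ (η[bc G σ].left (IsLocalRing.closedPoint L)) =
    η[G].left (Spec.map (CommRingCat.ofHom σ) (IsLocalRing.closedPoint L))).trans ?_
  · exact h
  rw [unitPt, show Spec.map (CommRingCat.ofHom σ) (IsLocalRing.closedPoint L) =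
    IsLocalRing.closedPoint K from Subsingleton.elim (α := PrimeSpectrum K) _ _]

theorem proj_surjective {L : Type u} [Field L] (σ : K →+* L) :
    Function.Surjective (proj G σ) := by
  have : Surjective (Spec.map (CommRingCat.ofHom σ)) :=
    ⟨Function.surjective_to_subsingleton (α := Spec (CommRingCat.of L)) (β := Spec _) _⟩
  exact (proj G σ).surjective

theorem proj_isOpenMap {L : Type u} [Field L] (σ : K →+* L) : IsOpenMap (proj G σ) :=
  (proj G σ).isOpenMap

theorem proj_generalizing {L : Type u} [Field L] (σ : K →+* L) :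
    GeneralizingMap (proj G σ) := by
  have : Flat (Spec.map (CommRingCat.ofHom σ)) := flat_to_field σ
  exact Flat.generalizingMap (proj G σ)

variable (G) in
/-- every point becomes rational over a suitable algebraically closed field -/
theorem exists_rational (x : G.left) :
    ∃ (Ω : Type u) (_ : Field Ω) (_ : IsAlgClosed Ω) (σ : K →+* Ω)
      (a : 𝟙_ (Over (Spec (CommRingCat.of Ω))) ⟶ bc G σ),
      proj G σ (a.left (IsLocalRing.closedPoint Ω)) = x := by
  obtain ⟨L, _, τ, b, hb, hrange⟩ := exists_fibre G.hom x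
  let Ω := AlgebraicClosure L
  let i : L →+* Ω := algebraMap L Ω
  let a₀ : Spec (CommRingCat.of Ω) ⟶ G.left := Spec.map (CommRingCat.ofHom i) ≫ b
  have ha₀ : a₀ ≫ G.hom = 𝟙 _ ≫ Spec.map (CommRingCat.ofHom (i.comp τ)) := by
    rw [Category.id_comp, Category.assoc, hb, ← Spec.map_comp]; rfl
  refine ⟨Ω, inferInstance, inferInstance, i.comp τ,
    Over.homMk (pullback.lift a₀ (𝟙 _) ha₀) (pullback.lift_snd _ _ _), ?_⟩
  show proj G (i.comp τ) (pullback.lift a₀ (𝟙 _) ha₀ (IsLocalRing.closedPoint Ω)) = x
  refine (congr($(pullback.lift_fst a₀ (𝟙 _) ha₀) (IsLocalRing.closedPoint Ω))).trans ?_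
  have : a₀ (IsLocalRing.closedPoint Ω) ∈ Set.range b := ⟨_, rfl⟩
  rwa [hrange] at this

theorem translate_unitPt (a : 𝟙_ (Over (Spec (CommRingCat.of K))) ⟶ G) :
    (GrpObj.mulRight a).hom.left (unitPt G) = a.left (IsLocalRing.closedPoint K) := by
  have h : η[G] ≫ (GrpObj.mulRight a).hom = a := by
    rw [GrpObj.mulRight_hom, comp_lift_assoc, Category.comp_id, ← Category.assoc,
      toUnit_unique (η[G] ≫ toUnit G) (𝟙 _), Category.id_comp, ← Hom.mul_def]
    rw [show (η[G] : 𝟙_ _ ⟶ G) = 1 by simp [Hom.one_def], _root_.one_mul]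
  exact congr($(congrArg Over.Hom.left h) (IsLocalRing.closedPoint K))

/-- homeomorphism given by translation -/
noncomputable def transl (a : 𝟙_ (Over (Spec (CommRingCat.of K))) ⟶ G) : G.left ≃ₜ G.left :=
  ((Over.forget _).mapIso (GrpObj.mulRight a)).hom.homeomorph

theorem transl_unitPt (a : 𝟙_ (Over (Spec (CommRingCat.of K))) ⟶ G) :
    transl a (unitPt G) = a.left (IsLocalRing.closedPoint K) :=
  translate_unitPt a

end Groth.Agent.Grp57
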