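import Groth.Agent.Grp57.Unit
import Groth.Agent.MorE57.Descent
import Groth.Agent.Var76.ActTrans
import Mathlib.AlgebraicGeometry.Properties
import Mathlib.Topology.KrullDimension
import Mathlib.FieldTheory.IsAlgClosed.AlgebraicClosure
import Mathlib.AlgebraicGeometry.Morphisms.Integral

/-!
The dimension of a group scheme at its closed points.
-/

set_option autoImplicit false
set_option linter.style.haveILetI false
set_option backward.isDefEq.respectTransparency.types false

noncomputable section

universe u

open CategoryTheory MonoidalCategory CartesianMonoidalCategory MonObj GrpObj AlgebraicGeometry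
open CategoryTheory.Limits Order

namespace Groth.Agent.Grp57

theorem topologicalKrullDim_eq_iSup_coheight (X : Scheme.{u}) :
    topologicalKrullDim X = ⨆ x : X, ((coheight x : ℕ∞) : WithBot ℕ∞) := by
  let e : TopologicalSpace.IrreducibleCloseds X ≃o X :=
    { toEquiv := (irreducibleSetEquivPoints (α := X)).toEquiv
      map_rel_iff' := (irreducibleSetEquivPoints (α := X)).map_rel_iff }
  rw [topologicalKrullDim, krullDim_eq_of_orderIso e, krullDim_eq_iSup_coheight]

theorem coheight_eq_of_integral_of_generalizing {X Y : Scheme.{u}} (f : X ⟶ Y) [IsIntegralHom f]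
    (hf : GeneralizingMap f) (x : X) : coheight x = coheight (f x) := by
  refine coheight_eq_of_strictMono f (fun a b h => ?_) (fun a b h => ?_) x
  · refine lt_iff_le_not_ge.2 ⟨h.le.map f.continuous, fun h' => h.not_ge ?_⟩
    have := MorE57.isClosed_singleton_fibre f b a h.le
      ((show f a ⤳ f b from h').antisymm (show f b ⤳ f a from h.le.map f.continuous)).eq
    rw [this]
  · obtain ⟨a', ha', rfl⟩ := hf h.le
    refine ⟨a', lt_iff_le_not_ge.2 ⟨ha', fun h' => h.not_ge ?_⟩, rfl⟩
    exact (show a ⤳ a' from h').map f.continuous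

theorem exists_closed_specialization {X : Scheme.{u}} [JacobsonSpace X] (x : X) :
    ∃ z : X, x ⤳ z ∧ IsClosed ({z} : Set X) := by
  obtain ⟨_, ⟨U, hU, rfl⟩, hxU, -⟩ :=
    X.isBasis_affineOpens.exists_subset_of_mem_open (Set.mem_univ x) isOpen_univ
  haveI : CompactSpace U := isCompact_iff_compactSpace.1 hU.isCompact
  obtain ⟨z, hz, hzc⟩ := IsClosed.exists_closed_singleton (S := closure ({⟨x, hxU⟩} : Set U))
    isClosed_closure ⟨_, subset_closure rfl⟩
  refine ⟨z.1, (specializes_iff_mem_closure.2 hz).map continuous_subtype_val, ?_⟩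
  have h1 : IsLocallyClosed ({z.1} : Set X) := by
    have := (IsClosed.isLocallyClosed hzc).image (f := (Subtype.val : U → X))
      U.2.isOpenEmbedding_subtypeVal.isInducing U.2.isOpenEmbedding_subtypeVal.isOpen_range.isLocallyClosed
    simpa using this
  exact isClosed_singleton_of_isLocallyClosed_singleton h1

variable {K : Type u} [Field K] (G : Over (Spec (CommRingCat.of K))) [GrpObj G]
  [LocallyOfFiniteType G.hom]

instance lft_bc {L : Type u} [Field L] (σ : K →+* L) : LocallyOfFiniteType (bc G σ).hom :=
  inferInstanceAs (LocallyOfFiniteType (pullback.snd _ _))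

theorem exists_closed_proj_eq (g : G.left) (hg : IsClosed ({g} : Set G.left)) :
    ∃ y : (bc G (algebraMap K (AlgebraicClosure K))).left,
      IsClosed ({y} : Set _) ∧ proj G (algebraMap K (AlgebraicClosure K)) y = g := by
  let σ := algebraMap K (AlgebraicClosure K)
  haveI : IsIntegralHom (Spec.map (CommRingCat.ofHom σ)) :=
    IsIntegralHom.SpecMap_iff.2 (algebraMap_isIntegral_iff.2 inferInstance)
  obtain ⟨y, rfl⟩ := proj_surjective (G := G) σ g
  refine ⟨y, ?_, rfl⟩
  rw [← closure_subset_iff_isClosed]
  intro y' hy'
  have hs : y ⤳ y' := specializes_iff_mem_closure.2 hy'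
  refine MorE57.isClosed_singleton_fibre (proj G σ) y y' hs ?_
  exact hg.closure_subset (specializes_iff_mem_closure.1 (hs.map (proj G σ).continuous))

theorem coheight_proj (y : (bc G (algebraMap K (AlgebraicClosure K))).left) :
    coheight y = coheight (proj G (algebraMap K (AlgebraicClosure K)) y) := by
  let σ := algebraMap K (AlgebraicClosure K)
  haveI : IsIntegralHom (Spec.map (CommRingCat.ofHom σ)) :=
    IsIntegralHom.SpecMap_iff.2 (algebraMap_isIntegral_iff.2 inferInstance)
  exact coheight_eq_of_integral_of_generalizing _ (proj_generalizing σ) y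

/-- all closed points have the same codimension -/
theorem coheight_eq_of_isClosed (g g' : G.left) (hg : IsClosed ({g} : Set G.left))
    (hg' : IsClosed ({g'} : Set G.left)) : coheight g = coheight g' := by
  obtain ⟨y, hy, rfl⟩ := exists_closed_proj_eq G g hg
  obtain ⟨y', hy', rfl⟩ := exists_closed_proj_eq G g' hg'
  rw [← coheight_proj, ← coheight_proj]
  obtain ⟨σ, hσ⟩ := Var76.ActTrans.exists_lTrans_eq y y' hy hy'
  rw [← hσ]
  haveI : IsIso (Var76.ActTrans.lTrans σ).hom.left :=
    ((Over.forget _).mapIso (Var76.ActTrans.lTrans σ)).isIso_hom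
  exact (coheight_eq_of_isOpenImmersion (Var76.ActTrans.lTrans σ).hom.left).symm

theorem coheight_eq_dim (g : G.left) (hg : IsClosed ({g} : Set G.left)) :
    ((coheight g : ℕ∞) : WithBot ℕ∞) = topologicalKrullDim G.left := by
  haveI : JacobsonSpace G.left := LocallyOfFiniteType.jacobsonSpace G.hom
  rw [topologicalKrullDim_eq_iSup_coheight]
  refine le_antisymm (le_iSup (fun x : G.left => ((coheight x : ℕ∞) : WithBot ℕ∞)) g) (iSup_le fun x => ?_)
  obtain ⟨z, hxz, hz⟩ := exists_closed_specialization x
  rw [coheight_eq_of_isClosed G g z hg hz]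
  exact WithBot.coe_le_coe.2 (coheight_anti hxz)

theorem ringKrullDim_stalk_eq_dim (g : G.left) (hg : IsClosed ({g} : Set G.left)) :
    ringKrullDim (G.left.presheaf.stalk g) = topologicalKrullDim G.left := by
  rw [ringKrullDim_stalk_eq_coheight]
  exact coheight_eq_dim G g hg

/-- the dimension does not change on passing to an algebraic closure -/
theorem dim_bc_algebraicClosure [Nonempty G.left] :
    topologicalKrullDim (bc G (algebraMap K (AlgebraicClosure K))).left = topologicalKrullDim G.left := by
  haveI : JacobsonSpace G.left := LocallyOfFiniteType.jacobsonSpace G.hom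
  obtain ⟨g, -, hg⟩ := exists_closed_specialization (Classical.arbitrary G.left)
  obtain ⟨y, hy, rfl⟩ := exists_closed_proj_eq G g hg
  rw [← coheight_eq_dim G _ hg, ← coheight_eq_dim _ y hy, coheight_proj]

end Groth.Agent.Grp57
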