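import Groth.Agent.Grp57.Dim
import Groth.Agent.FlatMor67.RegularSmooth
import Groth.Agent.Var76.RegKaehler
import Groth.Agent.Unr55.StalkCrit
import Groth.Agent.SGA3a.GrpSep
import Groth.Prelude.Def_Omega4
import Mathlib.AlgebraicGeometry.Morphisms.Smooth
import Mathlib.AlgebraicGeometry.Morphisms.LocalFlatDescent
import Mathlib.AlgebraicGeometry.Noetherian
import Mathlib.RingTheory.RegularLocalRing.Defs

/-!
Smoothness of a group scheme over a field via the unit.
-/

set_option autoImplicit false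
set_option linter.style.haveILetI false
set_option backward.isDefEq.respectTransparency.types false

noncomputable section

universe u

open CategoryTheory MonoidalCategory CartesianMonoidalCategory MonObj GrpObj AlgebraicGeometry
open CategoryTheory.Limits IsLocalRing

namespace Groth.Agent.Grp57

variable {K : Type u} [Field K]

theorem isClosed_unitPt (G : Over (Spec (CommRingCat.of K))) [GrpObj G] [LocallyOfFiniteType G.hom] :
    IsClosed ({unitPt G} : Set G.left) := by
  have he : η[G].left ≫ G.hom = 𝟙 _ := Over.w η[G]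
  haveI : IsSeparated G.hom := SGA3a.isSeparated_of_subsingleton G
  haveI : IsClosedImmersion (η[G].left ≫ G.hom) := by rw [he]; infer_instance
  haveI : IsClosedImmersion η[G].left := IsClosedImmersion.of_comp η[G].left G.hom
  haveI : Subsingleton (Spec (CommRingCat.of K)) := inferInstanceAs (Subsingleton (PrimeSpectrum K))
  have h := η[G].left.isClosedMap _ (isClosed_discrete ({closedPoint K} : Set (Spec (CommRingCat.of K))))
  exact (Set.image_singleton (f := fun z => η[G].left z)) ▸ h

theorem smooth_iff_smoothLocus_unit [IsAlgClosed K] (G : Over (Spec (CommRingCat.of K))) [GrpObj G]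
    [LocallyOfFiniteType G.hom] [LocallyOfFinitePresentation G.hom]
    (h : unitPt G ∈ G.hom.smoothLocus) : Smooth G.hom := by
  haveI := LocallyOfFiniteType.jacobsonSpace G.hom
  rw [← Scheme.Hom.smoothLocus_eq_top_iff, ← top_le_iff]
  rintro x -
  obtain ⟨z, hxz, hz⟩ := exists_closed_specialization x
  obtain ⟨σ, hσ⟩ := Var76.ActTrans.exists_lTrans_eq (unitPt G) z (isClosed_unitPt G) hz
  let φ := (Var76.ActTrans.lTrans σ).hom.left
  haveI : IsIso φ := ((Over.forget _).mapIso (Var76.ActTrans.lTrans σ)).isIso_hom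
  have e : φ ⁻¹ᵁ G.hom.smoothLocus = G.hom.smoothLocus := by
    rw [Scheme.Hom.preimage_smoothLocus_eq]
    congr 1
    exact Over.w (Var76.ActTrans.lTrans σ).hom
  have hz' : z ∈ G.hom.smoothLocus := by
    rw [← hσ]
    exact e.ge h
  exact hxz.mem_open G.hom.smoothLocus.2 hz'

theorem smooth_of_smooth_near_unit (G : Over (Spec (CommRingCat.of K))) [GrpObj G]
    [LocallyOfFiniteType G.hom] (U : G.left.Opens) (hU : unitPt G ∈ U) [Smooth (U.ι ≫ G.hom)] :
    Smooth G.hom := by
  let σ := algebraMap K (AlgebraicClosure K)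
  haveI : LocallyOfFinitePresentation (bc G σ).hom :=
    LocallyOfFinitePresentation.iff_locallyOfFiniteType.2 inferInstance
  have hpb : IsPullback (proj G σ) (bc G σ).hom G.hom (Spec.map (CommRingCat.ofHom σ)) :=
    IsPullback.of_hasPullback G.hom (Spec.map (CommRingCat.ofHom σ))
  haveI : Smooth ((proj G σ ⁻¹ᵁ U).ι ≫ (bc G σ).hom) :=
    MorphismProperty.of_isPullback (P := @Smooth)
      ((isPullback_morphismRestrict (proj G σ) U).paste_vert hpb) inferInstance
  haveI : Smooth (bc G σ).hom := by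
    refine smooth_iff_smoothLocus_unit (bc G σ) ?_
    exact (Unr55.exists_smooth_iff (bc G σ).hom _).1
      ⟨proj G σ ⁻¹ᵁ U, by rw [Scheme.Hom.mem_preimage, proj_unitPt]; exact hU, inferInstance⟩
  have hS : (@Surjective ⊓ @Flat ⊓ @QuasiCompact : MorphismProperty Scheme.{u})
      (Spec.map (CommRingCat.ofHom σ)) :=
    ⟨⟨⟨Function.surjective_to_subsingleton (α := Spec (CommRingCat.of _)) (β := Spec _) _⟩,
      flat_to_field σ⟩, inferInstance⟩
  exact MorphismProperty.of_pullback_snd_of_descendsAlong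
    (P := @Smooth) (Q := @Surjective ⊓ @Flat ⊓ @QuasiCompact) hS (by assumption)

theorem regular_unit_iff (G : Over (Spec (CommRingCat.of K))) [GrpObj G]
    [LocallyOfFiniteType G.hom] :
    IsRegularLocalRing (G.left.presheaf.stalk (unitPt G)) ↔ Smooth G.hom := by
  haveI : LocallyOfFinitePresentation G.hom :=
    LocallyOfFinitePresentation.iff_locallyOfFiniteType.2 inferInstance
  have he : η[G].left ≫ G.hom = 𝟙 _ := Over.w η[G]
  obtain ⟨_, ⟨U, hU, rfl⟩, heU, -⟩ :=
    G.left.isBasis_affineOpens.exists_subset_of_mem_open (Set.mem_univ (unitPt G)) isOpen_univ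
  let S := Spec (CommRingCat.of K)
  have hS : IsAffineOpen (⊤ : S.Opens) := isAffineOpen_top S
  have hF : IsField Γ(S, ⊤) :=
    (Scheme.ΓSpecIso (CommRingCat.of K)).commRingCatIsoToRingEquiv.toMulEquiv.isField (Field.toIsField K)
  letI := hF.toField
  letI := (G.hom.appLE ⊤ U le_top).hom.toAlgebra
  haveI : Algebra.FiniteType Γ(S, ⊤) Γ(G.left, U) := G.hom.finiteType_appLE hS hU le_top
  have htop : (⊤ : S.Opens) ≤ η[G].left ⁻¹ᵁ U := fun z _ => by
    show η[G].left z ∈ U
    rw [Subsingleton.elim (α := PrimeSpectrum K) z (closedPoint K)]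
    exact heU
  let ρ : Γ(G.left, U) →ₐ[Γ(S, ⊤)] Γ(S, ⊤) :=
    { (η[G].left.appLE U ⊤ htop).hom with
      commutes' := fun r => by
        show (G.hom.appLE ⊤ U le_top ≫ η[G].left.appLE U ⊤ htop) r = r
        rw [Scheme.Hom.appLE_comp_appLE, OmegaSh.id_appLE_eq_id he]
        rfl }
  have hρ : Function.Surjective ρ := fun r => ⟨_, ρ.commutes r⟩
  let q : Ideal Γ(G.left, U) := (hU.primeIdealOf ⟨unitPt G, heU⟩).asIdeal
  have hq : q = RingHom.ker ρ := by
    have h := congrArg PrimeSpectrum.asIdeal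
      (IsAffineOpen.comap_primeIdealOf_appLE U hU ⊤ hS htop (x := closedPoint K) trivial)
    refine h.symm.trans ?_
    show Ideal.comap (η[G].left.appLE U ⊤ htop).hom (hS.primeIdealOf ⟨closedPoint K, trivial⟩).asIdeal = _
    rw [(Ideal.eq_bot_or_top (hS.primeIdealOf ⟨closedPoint K, trivial⟩).asIdeal).resolve_right
      (hS.primeIdealOf ⟨closedPoint K, trivial⟩).2.ne_top]
    rfl
  haveI : q.IsMaximal := hq ▸ RingHom.ker_isMaximal_of_surjective ρ.toRingHom hρ
  letI := TopCat.Presheaf.algebra_section_stalk G.left.presheaf ⟨unitPt G, heU⟩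
  haveI : IsLocalization.AtPrime (G.left.presheaf.stalk (unitPt G)) q :=
    hU.isLocalization_stalk ⟨unitPt G, heU⟩
  let eloc := (IsLocalization.algEquiv q.primeCompl (Localization.AtPrime q)
    (G.left.presheaf.stalk (unitPt G))).toRingEquiv
  constructor
  · intro hreg
    haveI : IsRegularLocalRing (Localization.AtPrime q) := IsRegularLocalRing.of_ringEquiv eloc.symm
    let e1 : (Γ(G.left, U) ⧸ q) ≃ₐ[Γ(S, ⊤)] Γ(S, ⊤) :=
      (Ideal.quotientEquivAlgOfEq _ hq).trans (Ideal.quotientKerAlgEquivOfSurjective hρ)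
    let e2 : (Γ(G.left, U) ⧸ q) ≃ₐ[Γ(S, ⊤)] q.ResidueField :=
      AlgEquiv.ofBijective (IsScalarTower.toAlgHom _ _ _) q.bijective_algebraMap_quotient_residueField
    haveI : Algebra.FormallySmooth Γ(S, ⊤) q.ResidueField :=
      Algebra.FormallySmooth.of_equiv (e1.symm.trans e2)
    have hsm : Algebra.IsSmoothAt Γ(S, ⊤) q := FlatMor67.isSmoothAt_of_regular q
    have hmem : unitPt G ∈ G.hom.smoothLocus :=
      (formallySmooth_stalkMap_iff (f := G.hom) ⊤ hS U hU le_top heU).2 hsm
    obtain ⟨W, hW, hWs⟩ := (Unr55.exists_smooth_iff G.hom (unitPt G)).2 hmem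
    exact smooth_of_smooth_near_unit G W hW
  · intro hsm
    haveI : Algebra.Smooth Γ(S, ⊤) Γ(G.left, U) := G.hom.smooth_appLE hS hU le_top
    haveI := Var76.RegKaehler.isRegularRing_of_smooth (k := Γ(S, ⊤)) Γ(G.left, U)
    exact IsRegularLocalRing.of_ringEquiv eloc

theorem dim_le_finrank_and_smooth_iff (k : Type u) [Field k] (G : Over (Spec (CommRingCat.of k)))
    [GrpObj G] [LocallyOfFiniteType G.hom] :
    (topologicalKrullDim G.left ≤ ((Module.finrank (ResidueField (G.left.presheaf.stalk (unitPt G)))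
      (CotangentSpace (G.left.presheaf.stalk (unitPt G))) : ℕ∞) : WithBot ℕ∞)) ∧
    (Smooth G.hom ↔ topologicalKrullDim G.left =
      ((Module.finrank (ResidueField (G.left.presheaf.stalk (unitPt G)))
        (CotangentSpace (G.left.presheaf.stalk (unitPt G))) : ℕ∞) : WithBot ℕ∞)) := by
  haveI := LocallyOfFiniteType.isLocallyNoetherian G.hom
  rw [← ringKrullDim_stalk_eq_dim G _ (isClosed_unitPt G)]
  refine ⟨?_, ?_⟩
  · rw [← spanFinrank_maximalIdeal_eq_finrank_cotangentSpace]
    exact ringKrullDim_le_spanFinrank_maximalIdeal _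
  · rw [← regular_unit_iff, IsRegularLocalRing.iff_finrank_cotangentSpace]
    exact eq_comm

end Groth.Agent.Grp57
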