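import Groth.Agent.Grp57.Tangent
import Groth.Agent.Grp57.SmoothDim
import Groth.Agent.CAlg1.Miracle
import Groth.Agent.CAlg1.CMPoly
import Mathlib.AlgebraicGeometry.Morphisms.Etale
import Mathlib.RingTheory.Unramified.LocalRing
import Mathlib.CategoryTheory.Monoidal.Cartesian.Mon

/-!
Powers of the identity of a smooth commutative group scheme are etale when invertible in the field.
-/

set_option autoImplicit false
set_option backward.isDefEq.respectTransparency.types false
set_option linter.style.haveILetI false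

noncomputable section

universe u

open CategoryTheory MonoidalCategory CartesianMonoidalCategory MonObj GrpObj AlgebraicGeometry
open CategoryTheory.Limits IsLocalRing

namespace Groth.Agent.Grp57

variable {K : Type u} [Field K]

theorem zpow_unitPt (G : Over (Spec (CommRingCat.of K))) [GrpObj G] (d : ℤ) :
    (𝟙 G ^ d : G ⟶ G).left (unitPt G) = unitPt G := by
  have h1 : η[G] ≫ (𝟙 G ^ d : G ⟶ G) = η[G] := by
    have := map_zpow ({ toFun := fun x => η[G] ≫ x
                        map_one' := MonObj.comp_one _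
                        map_mul' := fun x y => MonObj.comp_mul _ _ _ } : (G ⟶ G) →* (𝟙_ _ ⟶ G)) (𝟙 G) d
    have h2 : η[G] ≫ (𝟙 G ^ d : G ⟶ G) = (η[G]) ^ d := by simpa using this
    rw [h2, show (η[G] : 𝟙_ _ ⟶ G) = 1 by simp [Hom.one_def], one_zpow]
  exact congr(($h1).left (closedPoint K))

/-- the local map at the unit, in terms of the stalk map -/
theorem exists_stalk_form (G : Over (Spec (CommRingCat.of K))) [GrpObj G] (d : ℤ) :
    ∃ (σ : G.left.presheaf.stalk (unitPt G) ≅ G.left.presheaf.stalk ((𝟙 G ^ d : G ⟶ G).left (unitPt G)))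
      (φ : G.left.presheaf.stalk (unitPt G) ⟶ G.left.presheaf.stalk (unitPt G)),
      φ = σ.hom ≫ (𝟙 G ^ d : G ⟶ G).left.stalkMap (unitPt G) ∧
      Spec.map σ.hom ≫ G.left.fromSpecStalk (unitPt G) = G.left.fromSpecStalk _ ∧
      ∀ (ℓ : Tangent.Tan G K) a, ℓ.toFun (φ a) = (d : K) • ℓ.toFun a := by
  obtain ⟨φ, hφ, hlin⟩ := Tangent.exists_localMap (G := G) d
  have h := zpow_unitPt G d
  refine ⟨⟨G.left.presheaf.stalkSpecializes (specializes_of_eq h),
    G.left.presheaf.stalkSpecializes (specializes_of_eq h.symm), ?_, ?_⟩, φ, ?_,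
    (Scheme.SpecMap_stalkSpecializes_fromSpecStalk (specializes_of_eq h)), hlin⟩
  · rw [TopCat.Presheaf.stalkSpecializes_comp]; exact TopCat.Presheaf.stalkSpecializes_refl _ _
  · rw [TopCat.Presheaf.stalkSpecializes_comp]; exact TopCat.Presheaf.stalkSpecializes_refl _ _
  refine Cartier57.eq_of_specMap_comp ?_
  rw [hφ, Spec.map_comp, Category.assoc, Scheme.SpecMap_stalkSpecializes_fromSpecStalk,
    Scheme.SpecMap_stalkMap_fromSpecStalk]

theorem stalk_formallyUnramified_and_flat (G : Over (Spec (CommRingCat.of K))) [GrpObj G]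
    [LocallyOfFiniteType G.hom] [Smooth G.hom] (d : ℤ) (hd : (d : K) ≠ 0) :
    ((𝟙 G ^ d : G ⟶ G).left.stalkMap (unitPt G)).hom.Flat ∧
      ((𝟙 G ^ d : G ⟶ G).left.stalkMap (unitPt G)).hom.FormallyUnramified := by
  let f := (𝟙 G ^ d : G ⟶ G).left
  haveI : LocallyOfFiniteType f :=
    haveI : LocallyOfFiniteType (f ≫ G.hom) := by rw [Over.w]; infer_instance
    locallyOfFiniteType_of_comp f G.hom
  haveI := LocallyOfFiniteType.isLocallyNoetherian G.hom
  obtain ⟨σ, φ, hφ, hσ, hlin⟩ := exists_stalk_form G d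
  let O := G.left.presheaf.stalk (unitPt G)
  haveI : IsRegularLocalRing O := (regular_unit_iff G).2 inferInstance
  haveI : IsRegularLocalRing (G.left.presheaf.stalk (f (unitPt G))) :=
    IsRegularLocalRing.of_ringEquiv σ.commRingCatIsoToRingEquiv
  have hσmax : (maximalIdeal O).map σ.hom.hom = maximalIdeal (G.left.presheaf.stalk (f (unitPt G))) :=
    IsLocalRing.map_ringEquiv_maximalIdeal σ.commRingCatIsoToRingEquiv
  haveI hloc : IsLocalHom φ.hom := by
    rw [hφ, CommRingCat.hom_comp]
    exact RingHom.isLocalHom_comp _ _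
  have hmax := Tangent.map_maximalIdeal_of_ne_zero (G := G) d hd φ hloc hlin
  rw [hφ, CommRingCat.hom_comp, ← Ideal.map_map, hσmax] at hmax
  letI : Algebra (G.left.presheaf.stalk (f (unitPt G))) O := (f.stalkMap (unitPt G)).hom.toAlgebra
  haveI : IsLocalHom (algebraMap (G.left.presheaf.stalk (f (unitPt G))) O) :=
    inferInstanceAs (IsLocalHom (f.stalkMap (unitPt G)).hom)
  haveI : Algebra.EssFiniteType (G.left.presheaf.stalk (f (unitPt G))) O :=
    LocallyOfFiniteType.stalkMap f (unitPt G)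
  refine ⟨?_, ?_⟩
  · haveI : LocCoh.IsCohenMacaulayLocalRing O := CAlg1.cm_of_isRegularLocalRing O
    refine CAlg1.miracle_flatness _ (G.left.presheaf.stalk (f (unitPt G))) O rfl ?_
    rw [ringKrullDim_eq_of_ringEquiv σ.commRingCatIsoToRingEquiv.symm]
    rw [show (maximalIdeal (G.left.presheaf.stalk (f (unitPt G)))).map (algebraMap _ O) = maximalIdeal O from hmax]
    haveI : (maximalIdeal O).IsMaximal := inferInstance
    letI := Ideal.Quotient.field (maximalIdeal O)
    rw [ringKrullDim_eq_zero_of_field (O ⧸ maximalIdeal O), add_zero]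
  · show Algebra.FormallyUnramified (G.left.presheaf.stalk (f (unitPt G))) O
    rw [Algebra.FormallyUnramified.iff_map_maximalIdeal_eq]
    refine ⟨⟨fun x => ?_⟩, hmax⟩
    obtain ⟨a, rfl⟩ := IsLocalRing.residue_surjective x
    have hker : RingHom.ker (Cartier57.evalMap G).hom = maximalIdeal O :=
      IsLocalRing.eq_maximalIdeal (RingHom.ker_isMaximal_of_surjective _
        fun c => ⟨Cartier57.strMap G c, Tangent.ev_str G c⟩)
    have hstr : φ (Cartier57.strMap G (Cartier57.evalMap G a)) - a ∈ maximalIdeal O := by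
      have h1 : ∀ c, φ (Cartier57.strMap G c) - Cartier57.strMap G c ∈ maximalIdeal O := fun c => by
        have : Cartier57.strMap G ≫ φ = Cartier57.strMap G := by
          apply Spec.map_injective
          rw [Spec.map_comp, Cartier57.strMap, Spec.map_preimage, hφ, Spec.map_comp, Category.assoc]
          rw [← Category.assoc (Spec.map σ.hom), hσ, ← Category.assoc, Scheme.SpecMap_stalkMap_fromSpecStalk, Category.assoc]
          congr 1
          exact Over.w _
        rw [show φ (Cartier57.strMap G c) = Cartier57.strMap G c from congr($this c), sub_self]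
        exact zero_mem _
      rw [← sub_add_sub_cancel _ (Cartier57.strMap G (Cartier57.evalMap G a)) a]
      refine add_mem (h1 _) ?_
      rw [← hker, RingHom.mem_ker, map_sub, Tangent.ev_str, sub_self]
    have hx : residue O a = algebraMap (ResidueField (G.left.presheaf.stalk (f (unitPt G)))) (ResidueField O)
        (residue _ (σ.hom (Cartier57.strMap G (Cartier57.evalMap G a)))) := by
      refine ((Ideal.Quotient.mk_eq_mk_iff_sub_mem _ _).2 hstr).symm.trans ?_
      rw [hφ]
      rfl
    rw [hx]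
    exact isSeparable_algebraMap _

theorem exists_etale_near_unit (G : Over (Spec (CommRingCat.of K))) [GrpObj G]
    [LocallyOfFiniteType G.hom] [Smooth G.hom] (d : ℤ) (hd : (d : K) ≠ 0) :
    ∃ U : G.left.Opens, unitPt G ∈ U ∧ Etale (U.ι ≫ (𝟙 G ^ d : G ⟶ G).left) := by
  haveI : LocallyOfFiniteType (𝟙 G ^ d : G ⟶ G).left :=
    haveI : LocallyOfFiniteType ((𝟙 G ^ d : G ⟶ G).left ≫ G.hom) := by rw [Over.w]; infer_instance
    locallyOfFiniteType_of_comp _ G.hom
  haveI := LocallyOfFiniteType.isLocallyNoetherian G.hom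
  haveI : LocallyOfFinitePresentation (𝟙 G ^ d : G ⟶ G).left :=
    LocallyOfFinitePresentation.iff_locallyOfFiniteType.2 inferInstance
  exact (Unr55.exists_etale_iff _ _).2 (stalk_formallyUnramified_and_flat G d hd)

theorem etale_zpow_of_isAlgClosed [IsAlgClosed K] (G : Over (Spec (CommRingCat.of K))) [GrpObj G]
    [IsCommMonObj G] [LocallyOfFiniteType G.hom] [Smooth G.hom] (d : ℤ) (hd : (d : K) ≠ 0) :
    Etale (𝟙 G ^ d : G ⟶ G).left := by
  obtain ⟨U, hU, hUe⟩ := exists_etale_near_unit G d hd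
  haveI := hUe
  haveI := LocallyOfFiniteType.jacobsonSpace G.hom
  suffices H : ∀ x : G.left, ∃ V : G.left.Opens, x ∈ V ∧ Etale (V.ι ≫ (𝟙 G ^ d : G ⟶ G).left) by
    choose V hxV hV using H
    exact IsZariskiLocalAtSource.of_iSup_eq_top (P := (@Etale : MorphismProperty Scheme.{u})) V
      (top_le_iff.1 fun x _ => TopologicalSpace.Opens.mem_iSup.2 ⟨x, hxV x⟩) hV
  intro x
  obtain ⟨z, hxz, hz⟩ := exists_closed_specialization x
  obtain ⟨s, hs⟩ := Var76.ActTrans.exists_lTrans_eq (unitPt G) z (isClosed_unitPt G) hz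
  let t := Var76.ActTrans.lTrans s
  haveI : IsIso t.hom.left := ((Over.forget _).mapIso t).isIso_hom
  haveI : IsIso t.inv.left := ((Over.forget _).mapIso t).isIso_inv
  let f : G ⟶ G := 𝟙 G ^ d
  let t' := Var76.ActTrans.lTrans (s ^ d)
  haveI : IsIso t'.hom.left := ((Over.forget _).mapIso t').isIso_hom
  have hcomm : t.hom ≫ f = f ≫ t'.hom := by
    have h1 : t.hom ≫ f = t.hom ^ d := by
      have := map_zpow ({ toFun := fun x => t.hom ≫ x
                          map_one' := MonObj.comp_one _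
                          map_mul' := fun x y => MonObj.comp_mul _ _ _ } : (G ⟶ G) →* (G ⟶ G)) (𝟙 G) d
      simpa using this
    have h2 : toUnit G ≫ s ^ d = (toUnit G ≫ s) ^ d := by
      have := map_zpow ({ toFun := fun x => toUnit G ≫ x
                          map_one' := MonObj.comp_one _
                          map_mul' := fun x y => MonObj.comp_mul _ _ _ } : (𝟙_ _ ⟶ G) →* (G ⟶ G)) s d
      simpa using this
    rw [h1]
    show ((toUnit G ≫ s) * 𝟙 G) ^ d = f ≫ ((toUnit G ≫ s ^ d) * 𝟙 G)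
    rw [mul_zpow, MonObj.comp_mul, Category.comp_id, ← Category.assoc,
      toUnit_unique (f ≫ toUnit G) (toUnit G), h2]
  let U' := t.inv.left ⁻¹ᵁ U
  have hzU : z ∈ U' := by
    show t.inv.left z ∈ U
    rw [← hs, ← Scheme.Hom.comp_apply, ← Over.comp_left]
    show (t.hom ≫ t.inv).left (unitPt G) ∈ U
    rw [t.hom_inv_id]
    exact hU
  have e : f = t.inv ≫ f ≫ t'.hom := by rw [← hcomm, Iso.inv_hom_id_assoc]
  have e' : f.left = t.inv.left ≫ f.left ≫ t'.hom.left := congrArg CommaMorphism.left e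
  have key : U'.ι ≫ f.left = (t.inv.left ∣_ U) ≫ (U.ι ≫ f.left) ≫ t'.hom.left := by
    rw [Category.assoc, morphismRestrict_ι_assoc, ← e']
  refine ⟨U', hxz.mem_open U'.2 hzU, ?_⟩
  rw [key]
  infer_instance

theorem etale_zpow (G : Over (Spec (CommRingCat.of K))) [GrpObj G]
    [IsCommMonObj G] [LocallyOfFiniteType G.hom] [Smooth G.hom] (d : ℤ) (hd : (d : K) ≠ 0) :
    Etale (𝟙 G ^ d : G ⟶ G).left := by
  let σ := algebraMap K (AlgebraicClosure K)
  let F := Over.pullback (Spec.map (CommRingCat.ofHom σ))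
  haveI : IsCommMonObj (bc G σ) := Functor.isCommMonObj_obj
  haveI : Smooth (bc G σ).hom := inferInstanceAs (Smooth (pullback.snd _ _))
  have hd' : (d : AlgebraicClosure K) ≠ 0 := by
    rwa [← map_intCast σ, map_ne_zero]
  have hmap : F.map (𝟙 G ^ d : G ⟶ G) = (𝟙 (bc G σ) ^ d : bc G σ ⟶ bc G σ) := by
    have := map_zpow (F.homMonoidHom (X := G) (M := G)) (𝟙 G) d
    simpa using this
  haveI : Etale (F.map (𝟙 G ^ d : G ⟶ G)).left := by
    rw [hmap]; exact etale_zpow_of_isAlgClosed (bc G σ) d hd'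
  have hpb : IsPullback (F.map (𝟙 G ^ d : G ⟶ G)).left (proj G σ) (proj G σ) (𝟙 G ^ d : G ⟶ G).left := by
    refine (IsPullback.of_right (h₁₂ := (bc G σ).hom) (h₂₂ := G.hom) (v₁₃ := Spec.map (CommRingCat.ofHom σ))
      ?_ ?_ (IsPullback.of_hasPullback G.hom (Spec.map (CommRingCat.ofHom σ))).flip)
    · rw [Over.w, Over.w]
      exact (IsPullback.of_hasPullback G.hom (Spec.map (CommRingCat.ofHom σ))).flip
    · simp only [F, proj]
      exact pullback.lift_fst _ _ _
  have hS : (@Surjective ⊓ @Flat ⊓ @QuasiCompact : MorphismProperty Scheme.{u})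
      (Spec.map (CommRingCat.ofHom σ)) :=
    ⟨⟨⟨Function.surjective_to_subsingleton (α := Spec (CommRingCat.of _)) (β := Spec _) _⟩,
      flat_to_field σ⟩, inferInstance⟩
  exact MorphismProperty.of_isPullback_of_descendsAlong (P := @Etale)
    (Q := @Surjective ⊓ @Flat ⊓ @QuasiCompact) hpb
    ⟨⟨MorphismProperty.pullback_fst _ _ hS.1.1, MorphismProperty.pullback_fst _ _ hS.1.2⟩,
      MorphismProperty.pullback_fst _ _ hS.2⟩ (by assumption)

end Groth.Agent.Grp57
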