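import Groth.Agent.Grp57.PowEtale
import Groth.Agent.Grp57.Component
import Groth.Agent.SGA3a.GrpNeutral

/-!
Finitely many closed points of a group scheme over an algebraically closed field lie in an affine open.
-/

set_option autoImplicit false
set_option backward.isDefEq.respectTransparency.types false
set_option linter.style.haveILetI false

noncomputable section

universe u

open CategoryTheory MonoidalCategory CartesianMonoidalCategory MonObj GrpObj AlgebraicGeometry

namespace Groth.Agent.Grp57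

variable {K : Type u} [Field K] [IsAlgClosed K] (G : Over (Spec (CommRingCat.of K))) [GrpObj G]
  [LocallyOfFiniteType G.hom]

theorem exists_affine_unit_component (s : Set G.left) (hs : s.Finite)
    (hcl : ∀ h ∈ s, IsClosed ({h} : Set G.left)) (hC : s ⊆ connectedComponent (unitPt G)) :
    ∃ U : G.left.Opens, IsAffineOpen U ∧ s ⊆ (U : Set G.left) ∧
      (U : Set G.left) ⊆ connectedComponent (unitPt G) := by
  classical
  haveI := LocallyOfFiniteType.jacobsonSpace G.hom
  let C := connectedComponent (unitPt G)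
  have hCo : IsOpen C := SGA3a.isOpen_connectedComponent_unit G
  obtain ⟨_, ⟨V, hV, rfl⟩, heV, hVC⟩ :=
    G.left.isBasis_affineOpens.exists_subset_of_mem_open mem_connectedComponent hCo
  let ψ : s → (G ⟶ G) := fun h =>
    (𝟙 G)⁻¹ * (toUnit G ≫ Var76.ActTrans.sec G h.1 (hcl h.1 h.2))
  have hψ : ∀ (h : s) (σ : 𝟙_ (Over (Spec (CommRingCat.of K))) ⟶ G),
      σ ≫ ψ h = σ⁻¹ * Var76.ActTrans.sec G h.1 (hcl h.1 h.2) := fun h σ => by
    rw [MonObj.comp_mul, GrpObj.comp_inv, Category.comp_id, ← Category.assoc,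
      toUnit_unique (σ ≫ toUnit G) (toUnit _), toUnit_unique (toUnit (𝟙_ _)) (𝟙 _), Category.id_comp]
  haveI := hs.to_subtype
  have hW : (C ∩ ⋂ h : s, (ψ h).left ⁻¹' (V : Set G.left)).Nonempty ∧
      IsOpen (C ∩ ⋂ h : s, (ψ h).left ⁻¹' (V : Set G.left)) := by
    refine ⟨?_, hCo.inter (isOpen_iInter_of_finite fun h => V.2.preimage (ψ h).left.continuous)⟩
    have hirr : IsPreirreducible C := (connectedComponent_unit G).1.2
    suffices H : ∀ T : Finset s, (C ∩ ⋂ h ∈ T, (ψ h).left ⁻¹' (V : Set G.left)).Nonempty by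
      haveI := Fintype.ofFinite s
      simpa using H Finset.univ
    intro T
    induction T using Finset.induction_on with
    | empty => exact ⟨_, mem_connectedComponent, by simp⟩
    | insert h T _ ih =>
      obtain ⟨z, hz⟩ := ih
      have hmem : h.1 ∈ (ψ h).left ⁻¹' (V : Set G.left) := by
        show (ψ h).left h.1 ∈ (V : Set G.left)
        have e := congr(($(hψ h (Var76.ActTrans.sec G h.1 (hcl h.1 h.2)))).left (IsLocalRing.closedPoint K))
        rw [inv_mul_cancel, Over.comp_left, Scheme.Hom.comp_apply, Var76.ActTrans.sec_apply] at e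
        rw [e, show (1 : 𝟙_ (Over (Spec (CommRingCat.of K))) ⟶ G) = η[G] by simp [Hom.one_def]]
        exact heV
      obtain ⟨w, hw1, hw2, hw3⟩ := hirr _ (⋂ h ∈ T, (ψ h).left ⁻¹' (V : Set G.left))
        (V.2.preimage (ψ h).left.continuous)
        (isOpen_biInter_finset fun h _ => V.2.preimage (ψ h).left.continuous)
        ⟨h.1, hC h.2, hmem⟩ ⟨z, hz⟩
      refine ⟨w, hw1, ?_⟩
      rw [Finset.set_biInter_insert]
      exact ⟨hw2, hw3⟩
  obtain ⟨z, ⟨hzC, hz⟩, hzc⟩ := nonempty_inter_closedPoints hW.1 hW.2.isLocallyClosed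
  let t := Var76.ActTrans.lTrans (Var76.ActTrans.sec G z hzc)
  haveI : IsIso t.hom.left := ((Over.forget _).mapIso t).isIso_hom
  haveI : IsIso t.inv.left := ((Over.forget _).mapIso t).isIso_inv
  have hinv : ∀ y, t.hom.left (t.inv.left y) = y := fun y => by
    rw [← Scheme.Hom.comp_apply, ← Over.comp_left, t.inv_hom_id]; rfl
  have hte : t.hom.left (unitPt G) = z := by
    have h1 : η[G] ≫ t.hom = Var76.ActTrans.sec G z hzc := by
      rw [Var76.ActTrans.comp_lTrans, toUnit_unique (toUnit _) (𝟙 _), Category.id_comp,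
        show (η[G] : 𝟙_ _ ⟶ G) = 1 by simp [Hom.one_def]]
      exact mul_one _
    exact (congr(($h1).left (IsLocalRing.closedPoint K))).trans (Var76.ActTrans.sec_apply G z hzc _)
  refine ⟨t.inv.left ⁻¹ᵁ V, hV.preimage_of_isIso t.inv.left, fun h hh => ?_, fun y hy => ?_⟩
  · show t.inv.left h ∈ (V : Set G.left)
    have hv : (ψ ⟨h, hh⟩).left z ∈ (V : Set G.left) := Set.mem_iInter.1 hz ⟨h, hh⟩
    have e : Var76.ActTrans.sec G z hzc ≫ ψ ⟨h, hh⟩ ≫ t.hom = Var76.ActTrans.sec G h (hcl h hh) := by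
      rw [← Category.assoc, hψ, Var76.ActTrans.comp_lTrans, toUnit_unique (toUnit _) (𝟙 _), Category.id_comp,
        mul_inv_cancel_left]
    have e' := congr(($e).left (IsLocalRing.closedPoint K))
    rw [Over.comp_left, Over.comp_left, Scheme.Hom.comp_apply, Scheme.Hom.comp_apply,
      Var76.ActTrans.sec_apply, Var76.ActTrans.sec_apply] at e'
    rw [← e', ← Scheme.Hom.comp_apply, ← Over.comp_left, t.hom_inv_id]
    exact hv
  · have h1 : t.inv.left y ∈ C := hVC hy
    have h2 := t.hom.left.continuous.mapsTo_connectedComponent _ h1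
    rw [hinv, hte, ← _root_.connectedComponent_eq hzC] at h2
    exact h2

theorem exists_affineOpen_of_closedPoints {n : ℕ} (g : Fin n → G.left)
    (hg : ∀ i, IsClosed ({g i} : Set G.left)) :
    ∃ U : G.left.Opens, IsAffineOpen U ∧ ∀ i, g i ∈ U := by
  classical
  have hcomp : ∀ c ∈ Set.range (fun i => connectedComponent (g i)), ∃ U : G.left.Opens,
      IsAffineOpen U ∧ (U : Set G.left) ⊆ c ∧ ∀ i, g i ∈ c → g i ∈ U := by
    rintro _ ⟨i₀, rfl⟩
    obtain ⟨σ, hσ⟩ := Var76.ActTrans.exists_lTrans_eq (unitPt G) (g i₀) (isClosed_unitPt G) (hg i₀)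
    let t := Var76.ActTrans.lTrans σ
    haveI : IsIso t.hom.left := ((Over.forget _).mapIso t).isIso_hom
    haveI : IsIso t.inv.left := ((Over.forget _).mapIso t).isIso_inv
    have hinv : ∀ y, t.hom.left (t.inv.left y) = y := fun y => by
      rw [← Scheme.Hom.comp_apply, ← Over.comp_left, t.inv_hom_id]; rfl
    have hinv' : ∀ y, t.inv.left (t.hom.left y) = y := fun y => by
      rw [← Scheme.Hom.comp_apply, ← Over.comp_left, t.hom_inv_id]; rfl
    let s : Set G.left := t.inv.left '' (Set.range g ∩ connectedComponent (g i₀))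
    obtain ⟨U, hU, hsU, hUC⟩ := exists_affine_unit_component G s
      (((Set.finite_range g).inter_of_left _).image _)
      (fun h ⟨y, ⟨⟨i, hi⟩, _⟩, hy⟩ => by
        subst hy hi
        simpa using (Scheme.Hom.homeomorph t.inv.left).isClosedMap _ (hg i))
      (fun h ⟨y, ⟨_, hyc⟩, hy⟩ => by
        subst hy
        have := t.inv.left.continuous.mapsTo_connectedComponent _ hyc
        rwa [← hσ, hinv'] at this)
    refine ⟨t.inv.left ⁻¹ᵁ U, hU.preimage_of_isIso t.inv.left, fun y hy => ?_, fun i hi => ?_⟩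
    · have := t.hom.left.continuous.mapsTo_connectedComponent _ (hUC hy)
      rwa [hinv, show t.hom.left (unitPt G) = g i₀ from hσ] at this
    · exact hsU ⟨g i, ⟨⟨i, rfl⟩, hi⟩, rfl⟩
  choose U hU hUc hUg using hcomp
  let W : Set.range (fun i => connectedComponent (g i)) → G.left.Opens := fun c => U c.1 c.2
  haveI := (Set.finite_range fun i => connectedComponent (g i)).to_subtype
  refine ⟨⨆ c, W c, IsAffineOpen.iSup_of_disjoint (fun c => hU c.1 c.2) fun c d hcd => ?_, fun i => ?_⟩
  · rw [Function.onFun, ← TopologicalSpace.Opens.coe_disjoint]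
    refine Set.disjoint_of_subset (hUc c.1 c.2) (hUc d.1 d.2) ?_
    obtain ⟨_, i, rfl⟩ := c
    obtain ⟨_, j, rfl⟩ := d
    exact connectedComponent_disjoint fun h => hcd (Subtype.ext h)
  · exact TopologicalSpace.Opens.mem_iSup.2
      ⟨⟨_, i, rfl⟩, hUg _ ⟨i, rfl⟩ i mem_connectedComponent⟩

end Groth.Agent.Grp57
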