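import Groth.Agent.FBase64.Geometric
import Mathlib.AlgebraicGeometry.Morphisms.Flat
import Mathlib.AlgebraicGeometry.Morphisms.UniversallyOpen

set_option autoImplicit false
universe u
open CategoryTheory CategoryTheory.Limits AlgebraicGeometry

namespace Groth.Agent.Grp57

variable {K : Type u} [Field K]

theorem exists_specMap {T : Scheme.{u}} {L : Type u} [Field L] (f : T ⟶ Spec (CommRingCat.of K))
    (a : Spec (CommRingCat.of L) ⟶ T) :
    ∃ σ : K →+* L, a ≫ f = Spec.map (CommRingCat.ofHom σ) :=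
  ⟨(Spec.preimage (a ≫ f)).hom, by rw [CommRingCat.ofHom_hom, Spec.map_preimage]⟩

theorem exists_fibre {T : Scheme.{u}} (f : T ⟶ Spec (CommRingCat.of K)) (x : T) :
    ∃ (L : Type u) (_ : Field L) (σ : K →+* L) (a : Spec (CommRingCat.of L) ⟶ T),
      a ≫ f = Spec.map (CommRingCat.ofHom σ) ∧ Set.range a = {x} := by
  obtain ⟨σ, hσ⟩ := exists_specMap (L := T.residueField x) f (T.fromSpecResidueField x)
  exact ⟨T.residueField x, inferInstance, σ, T.fromSpecResidueField x, hσ,
    T.range_fromSpecResidueField x⟩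

theorem flat_to_field {L : Type u} [Field L] (σ : K →+* L) :
    Flat (Spec.map (CommRingCat.ofHom σ)) := by
  rw [Flat.SpecMap_iff]
  letI := σ.toAlgebra
  exact RingHom.flat_algebraMap_iff.mpr (inferInstanceAs (Module.Flat K L))

variable {X Y : Scheme.{u}} (f : X ⟶ Spec (CommRingCat.of K)) (g : Y ⟶ Spec (CommRingCat.of K))

/-- products of irreducible subsets over a separably closed field are irreducible -/
theorem isIrreducible_prod [IsSepClosed K] {Z : Set X} (hZ : IsIrreducible Z)
    {Z' : Set Y} (hZ' : IsIrreducible Z') (hc : IsClosed Z') :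
    IsIrreducible (pullback.fst f g ⁻¹' Z ∩ pullback.snd f g ⁻¹' Z') := by
  obtain ⟨ζ, hζ⟩ := QuasiSober.sober hZ' hc
  obtain ⟨L, _, σ, a, hσ, ha⟩ := exists_fibre g ζ
  let t := Spec.map (CommRingCat.ofHom σ)
  let j : pullback f t ⟶ pullback f g :=
    pullback.map f t f g (𝟙 X) a (𝟙 _) (by simp) (by simpa using hσ.symm)
  have hj : ∀ x, pullback.fst f g (j x) = pullback.fst f t x := fun x => by
    rw [← Scheme.Hom.comp_apply, show j ≫ pullback.fst f g = pullback.fst f t from
      (pullback.lift_fst _ _ _).trans (Category.comp_id _)]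
  have hjrange : Set.range j = pullback.snd f g ⁻¹' {ζ} := by
    rw [Scheme.Pullback.range_map, ha]
    simp
  have h1 : IsIrreducible (pullback.fst f g ⁻¹' Z ∩ pullback.snd f g ⁻¹' {ζ}) := by
    convert (Groth.Agent.FBase64.isIrreducible_preimage_fst f σ hZ).image j j.continuous.continuousOn
      using 1
    ext w
    constructor
    · rintro ⟨hw1, hw2⟩
      obtain ⟨x, rfl⟩ : w ∈ Set.range j := hjrange ▸ hw2
      exact ⟨x, show pullback.fst f t x ∈ Z from hj x ▸ hw1, rfl⟩
    · rintro ⟨x, hx, rfl⟩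
      exact ⟨show pullback.fst f g (j x) ∈ Z from (hj x).symm ▸ hx, hjrange ▸ ⟨x, rfl⟩⟩
  have hsub : pullback.fst f g ⁻¹' Z ∩ pullback.snd f g ⁻¹' Z' ⊆
      closure (pullback.fst f g ⁻¹' Z ∩ pullback.snd f g ⁻¹' {ζ}) := by
    rintro s ⟨hs1, hs2⟩
    obtain ⟨L', _, σ', a', hσ', ha'⟩ := exists_fibre f (pullback.fst f g s)
    let t' := Spec.map (CommRingCat.ofHom σ')
    let j' : pullback t' g ⟶ pullback f g :=
      pullback.map t' g f g a' (𝟙 Y) (𝟙 _)
        (by simpa using hσ'.symm) (by simp)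
    have hj' : ∀ x, pullback.snd f g (j' x) = pullback.snd t' g x := fun x => by
      rw [← Scheme.Hom.comp_apply, show j' ≫ pullback.snd f g = pullback.snd t' g from
        (pullback.lift_snd _ _ _).trans (Category.comp_id _)]
    have hj'range : Set.range j' = pullback.fst f g ⁻¹' {pullback.fst f g s} := by
      rw [Scheme.Pullback.range_map, ha']
      simp
    obtain ⟨x, hx⟩ : s ∈ Set.range j' := hj'range ▸ (rfl : pullback.fst f g s = _)
    have : Flat t' := flat_to_field σ'
    have : Flat (pullback.snd t' g) := inferInstance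
    obtain ⟨x', hx', hx'ζ⟩ := Flat.generalizingMap (pullback.snd t' g)
      (show ζ ⤳ pullback.snd t' g x from hj' x ▸ hζ.specializes (hx.symm ▸ hs2))
    refine mem_closure_iff.2 fun W hW hxW => ⟨j' x', ?_, ?_, ?_⟩
    · exact (Specializes.map hx' j'.continuous).mem_open hW (hx.symm ▸ hxW)
    · have : j' x' ∈ Set.range j' := ⟨x', rfl⟩
      rw [hj'range] at this
      show pullback.fst f g (j' x') ∈ Z
      rw [show pullback.fst f g (j' x') = pullback.fst f g s from this]
      exact hs1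
    · show pullback.snd f g (j' x') = ζ
      rw [hj']; exact hx'ζ
  refine ⟨h1.nonempty.mono (Set.inter_subset_inter_right _
    (Set.preimage_mono (Set.singleton_subset_iff.2 hζ.mem))), fun U V hU hV hUne hVne => ?_⟩
  obtain ⟨a, ha, haU⟩ := hUne
  obtain ⟨b, hb, hbV⟩ := hVne
  obtain ⟨a', ha'U, ha'⟩ := mem_closure_iff.1 (hsub ha) U hU haU
  obtain ⟨b', hb'V, hb'⟩ := mem_closure_iff.1 (hsub hb) V hV hbV
  obtain ⟨c, hc1, hc2⟩ := h1.isPreirreducible U V hU hV ⟨a', ha', ha'U⟩ ⟨b', hb', hb'V⟩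
  exact ⟨c, ⟨hc1.1, Set.preimage_mono (Set.singleton_subset_iff.2 hζ.mem) hc1.2⟩, hc2⟩

end Groth.Agent.Grp57
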