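import Groth.Agent.Grp57.Unit

set_option autoImplicit false
universe u
open CategoryTheory CategoryTheory.Limits MonoidalCategory CartesianMonoidalCategory MonObj GrpObj AlgebraicGeometry

namespace Groth.Agent.Grp57

/-- at most one irreducible component passes through `x` -/
def UniqueComp {α : Type*} [TopologicalSpace α] (x : α) : Prop :=
  ∀ Z ∈ irreducibleComponents α, ∀ Z' ∈ irreducibleComponents α, x ∈ Z → x ∈ Z' → Z = Z'

theorem subset_component {α : Type*} [TopologicalSpace α] {x : α} (hx : UniqueComp x) {Z : Set α}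
    (hZ : Z ∈ irreducibleComponents α) (hxZ : x ∈ Z) {s : Set α} (hs : IsIrreducible s)
    (hxs : x ∈ s) : s ⊆ Z := by
  obtain ⟨Z', hZ', hsZ'⟩ := exists_mem_irreducibleComponents_subset_of_isIrreducible s hs
  rwa [hx Z hZ Z' hZ' hxZ (hsZ' hxs)]

theorem uniqueComp_of_generalizing {α β : Type*} [TopologicalSpace α] [TopologicalSpace β]
    [QuasiSober α] [T0Space α] [QuasiSober β] [T0Space β] {p : α → β} (hc : Continuous p)
    (hg : GeneralizingMap p) {x : α} (hx : UniqueComp x) : UniqueComp (p x) := by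
  obtain ⟨γ, hγ, hγx⟩ := SchBasics.exists_maximal_specializes x
  suffices key : ∀ Z ∈ irreducibleComponents β, p x ∈ Z → Z = closure {p γ} from
    fun Z hZ Z' hZ' h h' => (key Z hZ h).trans (key Z' hZ' h').symm
  intro Z hZ hxZ
  have hcl := isClosed_of_mem_irreducibleComponents Z hZ
  obtain ⟨ζ, hζ⟩ := QuasiSober.sober hZ.1 hcl
  obtain ⟨ζ', hζ', rfl⟩ := hg (hζ.specializes hxZ)
  have h1 : closure {ζ'} ⊆ closure {γ} :=
    subset_component hx hγ (specializes_iff_mem_closure.1 hγx) isIrreducible_singleton.closure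
      (specializes_iff_mem_closure.1 hζ')
  have h2 : p γ ⤳ p ζ' := (specializes_iff_mem_closure.2 (h1 (subset_closure rfl))).map hc
  have hle : Z ⊆ closure {p γ} := hζ.def ▸ specializes_iff_closure_subset.1 h2
  exact hle.antisymm (hZ.2 isIrreducible_singleton.closure hle)

section SepClosed
variable {K : Type u} [Field K] [IsSepClosed K] {G : Over (Spec (CommRingCat.of K))} [GrpObj G]

theorem unit_apply (z : G.left) :
    (toUnit G ≫ η[G]).left z = unitPt G :=
  congrArg η[G].left (Subsingleton.elim (α := PrimeSpectrum K) _ _)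

theorem one_apply (T : Over (Spec (CommRingCat.of K))) (z : T.left) :
    (1 : T ⟶ G).left z = unitPt G := by
  rw [Hom.one_def]
  exact congrArg η[G].left (Subsingleton.elim (α := PrimeSpectrum K) _ _)

theorem left_apply {X Y Z : Over (Spec (CommRingCat.of K))} (f : X ⟶ Y) (g : Y ⟶ Z) (h : X ⟶ Z)
    (e : f ≫ g = h) (x : X.left) : g.left (f.left x) = h.left x := by
  subst e; rfl

theorem subset_image_mul_left {Z C : Set G.left} (he : unitPt G ∈ Z) :
    C ⊆ μ[G].left '' ((fst G G).left ⁻¹' Z ∩ (snd G G).left ⁻¹' C) := fun c hc => by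
  refine ⟨(lift (1 : G ⟶ G) (𝟙 G)).left c, ⟨?_, ?_⟩, ?_⟩
  · rw [Set.mem_preimage, left_apply _ _ _ (lift_fst _ _), one_apply]; exact he
  · rw [Set.mem_preimage, left_apply _ _ _ (lift_snd _ _)]; exact hc
  · rw [left_apply _ _ (𝟙 G) (by rw [← Hom.mul_def]; exact _root_.one_mul _)]; rfl

theorem subset_image_mul_right {Z C : Set G.left} (he : unitPt G ∈ Z) :
    C ⊆ μ[G].left '' ((fst G G).left ⁻¹' C ∩ (snd G G).left ⁻¹' Z) := fun c hc => by
  refine ⟨(lift (𝟙 G) (1 : G ⟶ G)).left c, ⟨?_, ?_⟩, ?_⟩
  · rw [Set.mem_preimage, left_apply _ _ _ (lift_fst _ _)]; exact hc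
  · rw [Set.mem_preimage, left_apply _ _ _ (lift_snd _ _), one_apply]; exact he
  · rw [left_apply _ _ (𝟙 G) (by rw [← Hom.mul_def]; exact _root_.mul_one _)]; rfl

theorem isIrreducible_image_prod {T : Over (Spec (CommRingCat.of K))} (φ : G ⊗ G ⟶ T)
    {Z Z' : Set G.left} (hZ : IsIrreducible Z) (hZ' : IsIrreducible Z') (hc : IsClosed Z') :
    IsIrreducible (φ.left '' ((fst G G).left ⁻¹' Z ∩ (snd G G).left ⁻¹' Z')) :=
  (isIrreducible_prod G.hom G.hom hZ hZ' hc).image _ φ.left.continuous.continuousOn

theorem uniqueComp_unit_sepClosed : UniqueComp (unitPt G) := by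
  intro Z hZ Z' hZ' he he'
  have h := (isIrreducible_image_prod (T := G) μ hZ.1 hZ'.1
    (isClosed_of_mem_irreducibleComponents _ hZ'))
  have h1 := subset_image_mul_right (C := Z) he'
  have h2 := subset_image_mul_left (C := Z') he
  exact ((hZ.2 h h1).antisymm h1).symm.trans ((hZ'.2 h h2).antisymm h2)

end SepClosed

variable {K : Type u} [Field K] {G : Over (Spec (CommRingCat.of K))} [GrpObj G]

/-- through every point of a group scheme over a field there passes a unique component -/
theorem uniqueComp (x : G.left) : UniqueComp x := by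
  obtain ⟨Ω, _, _, σ, a, rfl⟩ := exists_rational G x
  refine uniqueComp_of_generalizing (proj G σ).continuous (proj_generalizing σ) ?_
  rw [← transl_unitPt a]
  exact uniqueComp_of_generalizing (transl a).continuous
    (fun {x y} h => ⟨(transl a).symm y, by
      simpa using h.map (transl a).symm.continuous, by simp⟩)
    uniqueComp_unit_sepClosed

theorem existsUnique_component (x : G.left) :
    ∃! Z : Set G.left, Z ∈ irreducibleComponents (G.left : Type u) ∧ x ∈ Z :=
  ⟨irreducibleComponent x, ⟨irreducibleComponent_mem_irreducibleComponents x, mem_irreducibleComponent⟩,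
    fun Z hZ => uniqueComp x Z hZ.1 _ (irreducibleComponent_mem_irreducibleComponents x) hZ.2
      mem_irreducibleComponent⟩

theorem minimalPrimes_stalk_subsingleton (x : G.left) :
    (minimalPrimes (G.left.presheaf.stalk x)).Subsingleton := by
  have key : ∀ P ∈ minimalPrimes (G.left.presheaf.stalk x), ∃ p : Spec (G.left.presheaf.stalk x),
      p.asIdeal = P ∧ closure {G.left.fromSpecStalk x p} ∈ irreducibleComponents G.left ∧
        G.left.fromSpecStalk x p ⤳ x := by
    intro P hP
    let p : Spec (G.left.presheaf.stalk x) := ⟨P, hP.1.1⟩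
    have hx : G.left.fromSpecStalk x p ⤳ x :=
      (Scheme.range_fromSpecStalk (X := G.left) (x := x)).le ⟨p, rfl⟩
    refine ⟨p, rfl, (SchBasics.closure_singleton_mem_irreducibleComponents_iff _).2 fun z hz => ?_, hx⟩
    obtain ⟨q, rfl⟩ := (Scheme.range_fromSpecStalk (X := G.left) (x := x)).ge
      (show z ⤳ x from hz.trans hx)
    have hq : q ⤳ p := (G.left.fromSpecStalk x).isEmbedding.isInducing.specializes_iff.1 hz
    have hle : q.asIdeal ≤ p.asIdeal := (PrimeSpectrum.le_iff_specializes q p).2 hq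
    exact congrArg _ (PrimeSpectrum.ext (hle.antisymm (hP.2 ⟨q.isPrime, bot_le⟩ hle)))
  intro P hP Q hQ
  obtain ⟨p, rfl, hp, hpx⟩ := key P hP
  obtain ⟨q, rfl, hq, hqx⟩ := key Q hQ
  have h := uniqueComp x _ hp _ hq (specializes_iff_mem_closure.1 hpx)
    (specializes_iff_mem_closure.1 hqx)
  have h1 : G.left.fromSpecStalk x p = G.left.fromSpecStalk x q :=
    ((specializes_iff_mem_closure.2 (h ▸ subset_closure rfl :
      G.left.fromSpecStalk x q ∈ closure {G.left.fromSpecStalk x p})).antisymm
      (specializes_iff_mem_closure.2 (h.symm ▸ subset_closure rfl :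
      G.left.fromSpecStalk x p ∈ closure {G.left.fromSpecStalk x q}))).eq
  exact congrArg PrimeSpectrum.asIdeal ((G.left.fromSpecStalk x).isEmbedding.injective h1)

end Groth.Agent.Grp57
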