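import Groth.Agent.Grp57.PowEtale

/-!
On a positive-dimensional group scheme, powers by integers vanishing in the field are not etale.
-/

set_option autoImplicit false
set_option backward.isDefEq.respectTransparency.types false
set_option linter.style.haveILetI false

noncomputable section

universe u

open CategoryTheory MonoidalCategory CartesianMonoidalCategory MonObj GrpObj AlgebraicGeometry
open IsLocalRing

namespace Groth.Agent.Grp57

variable {K : Type u} [Field K]

/-- tangent vectors separate `m/m²` -/
theorem exists_tan_ne_zero (G : Over (Spec (CommRingCat.of K))) [GrpObj G]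
    (x : G.left.presheaf.stalk (unitPt G)) (hx : x ∈ maximalIdeal _)
    (hx' : x ∉ maximalIdeal (G.left.presheaf.stalk (unitPt G)) • maximalIdeal (G.left.presheaf.stalk (unitPt G))) :
    ∃ ℓ : Tangent.Tan G K, ℓ.toFun x ≠ 0 := by
  let O := G.left.presheaf.stalk (unitPt G)
  let str := Cartier57.strMap G
  let ev := Cartier57.evalMap G
  letI : Algebra K O := str.hom.toAlgebra
  have hker : RingHom.ker ev.hom = maximalIdeal O :=
    IsLocalRing.eq_maximalIdeal (RingHom.ker_isMaximal_of_surjective _ fun c => ⟨str c, Tangent.ev_str G c⟩)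
  have hres : ∀ a : O, a - str (ev a) ∈ maximalIdeal O := fun a => by
    rw [← hker, RingHom.mem_ker, map_sub, Tangent.ev_str, sub_self]
  let J : Submodule K O := (maximalIdeal O • maximalIdeal O).restrictScalars K
  obtain ⟨g, hgx, hgJ⟩ := Submodule.exists_dual_map_eq_bot_of_notMem (p := J) hx' inferInstance
  have hg0 : ∀ y ∈ J, g y = 0 := fun y hy => by
    have : g y ∈ J.map g := ⟨y, hy, rfl⟩
    rwa [hgJ, Submodule.mem_bot] at this
  refine ⟨{ toFun := fun a => g (a - str (ev a))
            map_add := fun a b => ?_
            map_mul := fun a b => ?_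
            map_const := fun c => ?_ }, ?_⟩
  · rw [← g.map_add]; congr 1; simp only [map_add]; ring
  · have h0 : g ((a - str (ev a)) * (b - str (ev b))) = 0 :=
      hg0 _ ((Submodule.restrictScalars_mem K (maximalIdeal O • maximalIdeal O) _).2
        (Ideal.mul_mem_mul (I := maximalIdeal O) (J := maximalIdeal O) (hres a) (hres b)))
    have e : a * b - str (ev (a * b)) = (show K from ev a) • (b - str (ev b)) +
        (show K from ev b) • (a - str (ev a)) + (a - str (ev a)) * (b - str (ev b)) := by
      simp only [Algebra.smul_def, map_mul]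
      show _ = str (ev a) * _ + str (ev b) * _ + _
      ring
    rw [e, g.map_add, g.map_add, h0, add_zero, g.map_smul, g.map_smul]
  · rw [Tangent.ev_str, sub_self, g.map_zero]
  · have hx0 : ev x = 0 := by rwa [← RingHom.mem_ker, hker]
    show g (x - str (ev x)) ≠ 0
    rw [hx0, map_zero, sub_zero]
    exact hgx

theorem ne_zero_of_etale_zpow (G : Over (Spec (CommRingCat.of K))) [GrpObj G]
    [LocallyOfFiniteType G.hom] (hG : 0 < topologicalKrullDim G.left) (d : ℤ)
    (het : Etale (𝟙 G ^ d : G ⟶ G).left) : (d : K) ≠ 0 := by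
  intro hd
  haveI := het
  haveI := LocallyOfFiniteType.isLocallyNoetherian G.hom
  obtain ⟨σ, φ, hφ, hσ, hlin⟩ := exists_stalk_form G d
  let f := (𝟙 G ^ d : G ⟶ G).left
  let O := G.left.presheaf.stalk (unitPt G)
  letI : Algebra (G.left.presheaf.stalk (f (unitPt G))) O := (f.stalkMap (unitPt G)).hom.toAlgebra
  haveI : IsLocalHom (algebraMap (G.left.presheaf.stalk (f (unitPt G))) O) :=
    inferInstanceAs (IsLocalHom (f.stalkMap (unitPt G)).hom)
  haveI : Algebra.EssFiniteType (G.left.presheaf.stalk (f (unitPt G))) O :=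
    LocallyOfFiniteType.stalkMap f (unitPt G)
  haveI : Algebra.FormallyUnramified (G.left.presheaf.stalk (f (unitPt G))) O :=
    FormallyUnramified.stalkMap f (unitPt G)
  have hmax' : (maximalIdeal (G.left.presheaf.stalk (f (unitPt G)))).map (algebraMap _ O) = maximalIdeal O :=
    Algebra.FormallyUnramified.map_maximalIdeal
  have hmax : (maximalIdeal O).map φ.hom = maximalIdeal O := by
    have hσmax : (maximalIdeal O).map σ.hom.hom = maximalIdeal (G.left.presheaf.stalk (f (unitPt G))) :=
      IsLocalRing.map_ringEquiv_maximalIdeal σ.commRingCatIsoToRingEquiv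
    rw [hφ, CommRingCat.hom_comp, ← Ideal.map_map, hσmax]
    exact hmax'
  have hzero := Tangent.maximalIdeal_le_sq_of_zero (G := G) d hd φ hlin hmax
  have hsq : maximalIdeal O ≤ maximalIdeal O • maximalIdeal O := by
    intro x hx
    by_contra hx'
    obtain ⟨ℓ, hℓ⟩ := exists_tan_ne_zero G x hx hx'
    exact hℓ (hzero ℓ x hx)
  haveI : IsNoetherianRing O := inferInstance
  have hbot : maximalIdeal O = ⊥ :=
    Submodule.eq_bot_of_le_smul_of_le_jacobson_bot _ _ (maximalIdeal O).fg_of_isNoetherianRing hsq
      (maximalIdeal_le_jacobson _)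
  have hfield : IsField O := IsLocalRing.isField_iff_maximalIdeal_eq.2 hbot
  have h0 : ringKrullDim O = 0 := ringKrullDim_eq_zero_of_isField hfield
  rw [ringKrullDim_stalk_eq_dim G _ (isClosed_unitPt G)] at h0
  exact hG.ne' h0

end Groth.Agent.Grp57
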