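import Mathlib.AlgebraicGeometry.PullbackCarrier
import Mathlib.AlgebraicGeometry.Morphisms.Basic
import Mathlib.RingTheory.Ideal.Quotient.Operations

/-!
Products of schemes with spectra of directed unions of split algebras.
-/

set_option autoImplicit false
set_option backward.isDefEq.respectTransparency.types false
set_option linter.style.haveILetI false

noncomputable section

universe u

open CategoryTheory CategoryTheory.Limits AlgebraicGeometry TensorProduct

namespace Groth.Agent.Grp57.Profinite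

/-- every finite subset lies in a split subalgebra -/
def IndSplit (k A : Type u) [Field k] [CommRing A] [Algebra k A] : Prop :=
  ∀ s : Finset A, ∃ (B : Subalgebra k A) (n : ℕ), (↑s : Set A) ⊆ (B : Set A) ∧ Nonempty (B ≃ₐ[k] (Fin n → k))

variable {k A : Type u} [Field k] [CommRing A] [Algebra k A]

theorem exists_idempotents (hA : IndSplit k A) (s : Finset A) :
    ∃ (n : ℕ) (b : Fin n → A), (∀ i l, i ≠ l → b i * b l = 0) ∧ ∑ i, b i = 1 ∧
      ∀ a ∈ s, ∃ c : Fin n → k, a = ∑ i, c i • b i := by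
  classical
  obtain ⟨B, n, hB, ⟨e⟩⟩ := hA s
  refine ⟨n, fun i => (e.symm (Pi.single i 1) : A), fun i l hil => ?_, ?_, fun a ha => ⟨e ⟨a, hB ha⟩, ?_⟩⟩
  · have h0 : (Pi.single i (1 : k) * Pi.single l (1 : k) : Fin n → k) = 0 := by
      funext m
      by_cases h : m = i
      · subst h; simp [hil]
      · simp [h]
    rw [← MulMemClass.coe_mul, ← map_mul, h0, map_zero, ZeroMemClass.coe_zero]
  · rw [← AddSubmonoidClass.coe_finsetSum, ← map_sum]
    rw [show (∑ i, Pi.single i (1 : k) : Fin n → k) = 1 from Finset.univ_sum_single (1 : Fin n → k), map_one]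
    rfl
  · have h : (⟨a, hB ha⟩ : B) = ∑ i, e ⟨a, hB ha⟩ i • e.symm (Pi.single i 1) := by
      apply e.injective
      rw [map_sum]
      simp only [map_smul, AlgEquiv.apply_symm_apply]
      exact pi_eq_sum_univ' _
    exact (congrArg (fun x : B => (x : A)) h).trans (by simp)

theorem algebraMap_quotient_bijective (hA : IndSplit k A) (p : Ideal A) [p.IsPrime] :
    Function.Bijective (algebraMap k (A ⧸ p)) := by
  refine ⟨(algebraMap k (A ⧸ p)).injective, fun x => ?_⟩
  obtain ⟨a, rfl⟩ := Ideal.Quotient.mk_surjective x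
  obtain ⟨n, b, hb, hb1, hs⟩ := exists_idempotents hA {a}
  obtain ⟨c, hc⟩ := hs a (Finset.mem_singleton_self a)
  obtain ⟨i, hi⟩ : ∃ i, b i ∉ p := by
    by_contra h
    push Not at h
    have : (1 : A) ∈ p := hb1 ▸ sum_mem fun i _ => h i
    exact (Ideal.ne_top_iff_one p).1 (Ideal.IsPrime.ne_top ‹_›) this
  have h0 : ∀ l ≠ i, b l ∈ p := fun l hl =>
    (Ideal.IsPrime.mem_or_mem ‹_› (show b l * b i ∈ p by rw [hb l i hl]; exact zero_mem _)).resolve_right hi
  refine ⟨c i, (Ideal.Quotient.mk_eq_mk_iff_sub_mem _ _).2 ?_⟩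
  have : algebraMap k A (c i) - a = ∑ l, (c i - c l) • b l := by
    rw [hc, Algebra.algebraMap_eq_smul_one, ← hb1, Finset.smul_sum, ← Finset.sum_sub_distrib]
    simp [sub_smul]
  rw [this]
  refine sum_mem fun l _ => ?_
  rcases eq_or_ne l i with rfl | hl
  · simp
  · rw [Algebra.smul_def]; exact p.mul_mem_left _ (h0 l hl)

theorem exists_algHom_ker (hA : IndSplit k A) (p : Ideal A) [p.IsPrime] :
    ∃ φ : A →ₐ[k] k, RingHom.ker φ = p := by
  let e := AlgEquiv.ofBijective (Algebra.ofId k (A ⧸ p)) (algebraMap_quotient_bijective hA p)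
  refine ⟨e.symm.toAlgHom.comp (Ideal.Quotient.mkₐ k p), ?_⟩
  ext a
  simp [RingHom.mem_ker, Ideal.Quotient.eq_zero_iff_mem]

variable {X : Scheme.{u}} (f : X ⟶ Spec (CommRingCat.of k))

local notation "π" => Spec.map (CommRingCat.ofHom (algebraMap k A))

theorem bijective (hA : IndSplit k A) :
    Function.Bijective (fun z : ↥(pullback π f) => (pullback.fst π f z, pullback.snd π f z)) := by
  have key : ∀ p : Spec (CommRingCat.of A), ∃ j : X ⟶ pullback π f, j ≫ pullback.snd π f = 𝟙 _ ∧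
      (∀ x, pullback.fst π f (j x) = p) ∧ ∀ z, pullback.fst π f z = p → z ∈ Set.range j := by
    intro p
    obtain ⟨φ, hφ⟩ := exists_algHom_ker hA p.asIdeal
    let i := Spec.map (CommRingCat.ofHom φ.toRingHom)
    have hi : i ≫ π = 𝟙 _ := by
      rw [← Spec.map_comp, ← Spec.map_id]
      congr 1
      ext c
      exact φ.commutes c
    let o : Spec (CommRingCat.of k) := IsLocalRing.closedPoint k
    have hp : ∀ y, i y = p := fun y => by
      rw [Subsingleton.elim (α := PrimeSpectrum k) y ⟨⊥, Ideal.isPrime_bot⟩]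
      exact PrimeSpectrum.ext (by
        show Ideal.comap φ.toRingHom ⊥ = p.asIdeal
        exact hφ)
    let j : X ⟶ pullback π f := pullback.lift (f ≫ i) (𝟙 X) (by rw [Category.assoc, hi]; simp)
    have hjs : j ≫ pullback.snd π f = 𝟙 X := pullback.lift_snd _ _ _
    have hsq : IsPullback f j i (pullback.fst π f) :=
      (IsPullback.of_right (h₁₁ := j) (h₂₁ := i) (v₁₁ := f)
        (by rw [hjs, hi]; exact IsPullback.of_horiz_isIso ⟨by simp⟩)
        (pullback.lift_fst _ _ _) (IsPullback.of_hasPullback π f).flip).flip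
    refine ⟨j, hjs, fun x => ?_, fun z hz => ?_⟩
    · rw [← Scheme.Hom.comp_apply, pullback.lift_fst, Scheme.Hom.comp_apply, hp]
    · obtain ⟨x, -, hx⟩ := Scheme.exists_preimage_of_isPullback hsq o z ((hp o).trans hz.symm)
      exact ⟨x, hx⟩
  refine ⟨fun z z' h => ?_, fun ⟨p, x⟩ => ?_⟩
  · obtain ⟨j, hj, -, hj'⟩ := key (pullback.fst π f z)
    obtain ⟨x, rfl⟩ := hj' z rfl
    obtain ⟨x', rfl⟩ := hj' z' (congrArg Prod.fst h).symm
    have h' := congrArg Prod.snd h
    simp only [← Scheme.Hom.comp_apply, hj] at h'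
    exact congrArg j h'
  · obtain ⟨j, hj, hj1, -⟩ := key p
    refine ⟨j x, Prod.ext (hj1 x) ?_⟩
    show pullback.snd π f (j x) = x
    rw [← Scheme.Hom.comp_apply, hj]
    rfl

theorem isOpenMap (hA : IndSplit k A) :
    IsOpenMap (fun z : ↥(pullback π f) => (pullback.fst π f z, pullback.snd π f z)) := by
  classical
  intro U hU
  rw [isOpen_iff_mem_nhds]
  rintro _ ⟨z, hzU, rfl⟩
  obtain ⟨_, ⟨W, hW, rfl⟩, hzW, -⟩ :=
    X.isBasis_affineOpens.exists_subset_of_mem_open (Set.mem_univ (pullback.snd π f z)) isOpen_univ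
  let R := Γ(X, W)
  let φ := Spec.preimage (hW.fromSpec ≫ f)
  letI : Algebra k R := φ.hom.toAlgebra
  have hwf : hW.fromSpec ≫ f = Spec.map (CommRingCat.ofHom (algebraMap k R)) := (Spec.map_preimage _).symm
  let pA : Spec (CommRingCat.of (A ⊗[k] R)) ⟶ Spec (CommRingCat.of A) :=
    Spec.map (CommRingCat.ofHom Algebra.TensorProduct.includeLeftRingHom)
  let pR : Spec (CommRingCat.of (A ⊗[k] R)) ⟶ Spec (CommRingCat.of R) :=
    Spec.map (CommRingCat.ofHom (Algebra.TensorProduct.includeRight (R := k) (A := A) (B := R)).toRingHom)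
  have hcond : pA ≫ π = (pR ≫ hW.fromSpec) ≫ f := by
    rw [Category.assoc, hwf, ← Spec.map_comp, ← Spec.map_comp]
    congr 1
    ext c
    exact ((Algebra.TensorProduct.includeLeft (R := k) (S := k) (A := A) (B := R)).commutes c).trans
      ((Algebra.TensorProduct.includeRight (R := k) (A := A) (B := R)).commutes c).symm
  let o := pullback.lift pA (pR ≫ hW.fromSpec) hcond
  have ho1 : ∀ y, pullback.fst π f (o y) = pA y := fun y => by
    rw [← Scheme.Hom.comp_apply, pullback.lift_fst]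
  have ho2 : ∀ y, pullback.snd π f (o y) = hW.fromSpec (pR y) := fun y => by
    rw [← Scheme.Hom.comp_apply, pullback.lift_snd, Scheme.Hom.comp_apply]
  have hsur : ∀ (q : Spec (CommRingCat.of A)) (r : Spec (CommRingCat.of R)), ∃ y, pA y = q ∧ pR y = r := by
    intro q r
    obtain ⟨w, hw⟩ := (bijective (Spec.map (CommRingCat.ofHom (algebraMap k R))) hA).2 (q, r)
    refine ⟨(pullbackSpecIso k A R).hom w, ?_, ?_⟩
    · rw [← Scheme.Hom.comp_apply, pullbackSpecIso_hom_fst]
      exact congrArg Prod.fst hw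
    · rw [← Scheme.Hom.comp_apply]
      erw [pullbackSpecIso_hom_snd]
      exact congrArg Prod.snd hw
  obtain ⟨r, hr⟩ : pullback.snd π f z ∈ Set.range hW.fromSpec := by rw [hW.range_fromSpec]; exact hzW
  obtain ⟨y, hy1, hy2⟩ := hsur (pullback.fst π f z) r
  have hoy : o y = z := (bijective f hA).1 (Prod.ext ((ho1 y).trans hy1) ((ho2 y).trans (hy2.symm ▸ hr)))
  obtain ⟨_, ⟨t, rfl⟩, hyt, htU⟩ := PrimeSpectrum.isTopologicalBasis_basic_opens.exists_subset_of_mem_open
    (show y ∈ o ⁻¹' U by rw [Set.mem_preimage, hoy]; exact hzU) (hU.preimage o.continuous)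
  obtain ⟨S, hS⟩ := TensorProduct.exists_finset t
  obtain ⟨n, b, hb, -, hs⟩ := exists_idempotents hA (S.image Prod.fst)
  choose! c hc using hs
  let v : Fin n → R := fun i => ∑ x ∈ S, c x.1 i • x.2
  have ht : t = ∑ i, b i ⊗ₜ[k] v i := by
    rw [hS]
    simp only [v, TensorProduct.tmul_sum]
    rw [Finset.sum_comm]
    refine Finset.sum_congr rfl fun x hx => ?_
    conv_lhs => rw [hc x.1 (Finset.mem_image_of_mem _ hx), TensorProduct.sum_tmul]
    exact Finset.sum_congr rfl fun i _ => by rw [TensorProduct.smul_tmul]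
  obtain ⟨i, hi⟩ : ∃ i, b i ⊗ₜ[k] v i ∉ y.asIdeal := by
    by_contra h
    push Not at h
    exact hyt (ht ▸ sum_mem fun i _ => h i)
  have hsplit : b i ⊗ₜ[k] v i = (b i ⊗ₜ[k] (1 : R)) * ((1 : A) ⊗ₜ[k] v i) := by simp
  have hbi : b i ⊗ₜ[k] (1 : R) ∉ y.asIdeal := fun h => hi (hsplit ▸ y.asIdeal.mul_mem_right _ h)
  have hvi : (1 : A) ⊗ₜ[k] v i ∉ y.asIdeal := fun h => hi (hsplit ▸ y.asIdeal.mul_mem_left _ h)
  let N : Set (Spec (CommRingCat.of A) × X) :=
    (PrimeSpectrum.basicOpen (b i) : Set (PrimeSpectrum A)) ×ˢ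
      (hW.fromSpec '' (PrimeSpectrum.basicOpen (v i) : Set (PrimeSpectrum R)))
  refine Filter.mem_of_superset (IsOpen.mem_nhds (s := N)
    ((PrimeSpectrum.basicOpen (b i)).2.prod (hW.fromSpec.isOpenEmbedding.isOpenMap _ (PrimeSpectrum.basicOpen (v i)).2))
    ⟨?_, r, ?_, hr⟩) ?_
  · show pullback.fst π f z ∈ PrimeSpectrum.basicOpen (b i)
    rw [← hy1]
    exact hbi
  · rw [← hy2]
    exact hvi
  rintro ⟨q, x⟩ ⟨hq, r', hr', rfl⟩
  obtain ⟨y', hy1', hy2'⟩ := hsur q r'
  refine ⟨o y', htU ?_, Prod.ext ((ho1 y').trans hy1') ((ho2 y').trans (hy2' ▸ rfl))⟩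
  show t ∉ y'.asIdeal
  have hbi' : b i ⊗ₜ[k] (1 : R) ∉ y'.asIdeal := by rw [← hy1'] at hq; exact hq
  have hvi' : (1 : A) ⊗ₜ[k] v i ∉ y'.asIdeal := by rw [← hy2'] at hr'; exact hr'
  intro htm
  have hrest : ∀ l ≠ i, b l ⊗ₜ[k] v l ∈ y'.asIdeal := fun l hl => by
    have h0 : b l ⊗ₜ[k] v l * (b i ⊗ₜ[k] (1 : R)) ∈ y'.asIdeal := by
      rw [Algebra.TensorProduct.tmul_mul_tmul, hb l i hl, TensorProduct.zero_tmul]; exact zero_mem _
    exact (y'.isPrime.mem_or_mem h0).resolve_right hbi'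
  rw [ht, ← Finset.add_sum_erase _ _ (Finset.mem_univ i)] at htm
  have := (Ideal.add_mem_iff_left _ (sum_mem fun l hl => hrest l (Finset.ne_of_mem_erase hl))).1 htm
  rw [hsplit] at this
  exact (y'.isPrime.mem_or_mem this).elim hbi' hvi'

theorem isHomeomorph (hA : IndSplit k A) :
    IsHomeomorph (fun z : ↥(pullback π f) => (pullback.fst π f z, pullback.snd π f z)) :=
  ⟨(pullback.fst π f).continuous.prodMk (pullback.snd π f).continuous, isOpenMap f hA, bijective f hA⟩

end Groth.Agent.Grp57.Profinite
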