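import Groth.Agent.Grp57.Profinite
import Groth.Agent.Grp57.Component
import Groth.Agent.Spec91.Basic
import Groth.Agent.Var76.ActTrans
import Groth.Agent.SGA3a.GrpSep
import Mathlib.AlgebraicGeometry.Morphisms.ClosedImmersion
import Mathlib.AlgebraicGeometry.Morphisms.QuasiSeparated

/-!
A profinite family of points of a group scheme lies in an affine open.
-/

set_option autoImplicit false
set_option backward.isDefEq.respectTransparency.types false
set_option linter.style.haveILetI false

noncomputable section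

universe u

open CategoryTheory CategoryTheory.Limits MonoidalCategory CartesianMonoidalCategory MonObj GrpObj AlgebraicGeometry
open TopologicalSpace

namespace Groth.Agent.Grp57.ProfiniteNhd

theorem isAffineOpen_inf_of_isClosed {X : Scheme.{u}} {W : X.Opens} (hW : IsAffineOpen W) (Z : X.Opens)
    (hZ : IsClosed (Subtype.val ⁻¹' (Z : Set X) : Set (W : Set X))) : IsAffineOpen (W ⊓ Z) := by
  let j := X.homOfLE (inf_le_left : W ⊓ Z ≤ W)
  have hr : Set.range j = (Subtype.val ⁻¹' (Z : Set X) : Set (W : Set X)) := by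
    ext w
    constructor
    · rintro ⟨y, rfl⟩
      show (j y).1 ∈ (Z : Set X)
      rw [show (j y).1 = y.1 from Scheme.homOfLE_apply _ y]
      exact y.2.2
    · intro hw
      exact ⟨⟨w.1, w.2, hw⟩, Subtype.ext (Scheme.homOfLE_apply _ _)⟩
  haveI : IsClosedImmersion j := IsClosedImmersion.of_isPreimmersion j (hr ▸ hZ)
  haveI : IsAffine W.toScheme := hW
  exact isAffine_of_isAffineHom j

variable {k : Type u} [Field k] (G : Over (Spec (CommRingCat.of k))) [GrpObj G]
variable {A : Type u} [CommRing A] [Algebra k A]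

local notation "TA" => Over.mk (Spec.map (CommRingCat.ofHom (algebraMap k A)))

instance compactSpace_ta : CompactSpace (TA).left := inferInstanceAs (CompactSpace (Spec (CommRingCat.of A)))

theorem one_left_apply {T : Over (Spec (CommRingCat.of k))} (z : T.left) :
    (1 : T ⟶ G).left z = unitPt G := by
  rw [Hom.one_def, Over.comp_left, Scheme.Hom.comp_apply]
  exact congrArg η[G].left (Subsingleton.elim (α := PrimeSpectrum k) _ _)

theorem isClosed_of_section (x : 𝟙_ (Over (Spec (CommRingCat.of k))) ⟶ G) :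
    IsClosed ({x.left (IsLocalRing.closedPoint k)} : Set G.left) := by
  haveI : IsSeparated G.hom := SGA3a.isSeparated_of_subsingleton G
  haveI : IsClosedImmersion (x.left ≫ G.hom) := by
    rw [Over.w]
    show IsClosedImmersion (𝟙 (Spec (CommRingCat.of k)))
    infer_instance
  haveI : IsClosedImmersion x.left := IsClosedImmersion.of_comp x.left G.hom
  have e : Set.range x.left = {x.left (IsLocalRing.closedPoint k)} := Set.eq_singleton_iff_unique_mem.2 ⟨⟨_, rfl⟩, by
    rintro _ ⟨y, rfl⟩; exact congrArg x.left (Subsingleton.elim (α := PrimeSpectrum k) _ _)⟩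
  rw [← e]
  exact x.left.isClosedEmbedding.isClosed_range

/-- the point of `G` at a prime of `A` is rational -/
theorem exists_section_apply (hA : Profinite.IndSplit k A) (f : TA ⟶ G) (p : Spec (CommRingCat.of A)) :
    ∃ x : 𝟙_ (Over (Spec (CommRingCat.of k))) ⟶ G, x.left (IsLocalRing.closedPoint k) = f.left p := by
  obtain ⟨φ, hφ⟩ := Profinite.exists_algHom_ker hA p.asIdeal
  let i : 𝟙_ (Over (Spec (CommRingCat.of k))) ⟶ TA := Over.homMk (Spec.map (CommRingCat.ofHom φ.toRingHom)) (by
    show Spec.map _ ≫ Spec.map _ = 𝟙 _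
    rw [← Spec.map_comp, ← Spec.map_id]
    congr 1
    ext c
    exact φ.commutes c)
  refine ⟨i ≫ f, ?_⟩
  rw [Over.comp_left, Scheme.Hom.comp_apply]
  congr 1
  refine PrimeSpectrum.ext ?_
  show Ideal.comap φ.toRingHom _ = p.asIdeal
  rw [show (IsLocalRing.closedPoint k).asIdeal = ⊥ from
    (congrArg PrimeSpectrum.asIdeal (Subsingleton.elim (α := PrimeSpectrum k) _ ⟨⊥, Ideal.isPrime_bot⟩))]
  exact hφ

/-- the connected component of a rational point is irreducible -/
theorem isIrreducible_component (a : 𝟙_ (Over (Spec (CommRingCat.of k))) ⟶ G) (q : G.left)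
    (ha : a.left (IsLocalRing.closedPoint k) = q) : IsIrreducible (connectedComponent q) := by
  let t := Var76.ActTrans.lTrans a
  haveI : IsIso t.hom.left := ((Over.forget _).mapIso t).isIso_hom
  haveI : IsIso t.inv.left := ((Over.forget _).mapIso t).isIso_inv
  have hte : t.hom.left (unitPt G) = q := by
    have h1 : η[G] ≫ t.hom = a := by
      rw [Var76.ActTrans.comp_lTrans, toUnit_unique (toUnit _) (𝟙 _), Category.id_comp,
        show (η[G] : 𝟙_ _ ⟶ G) = 1 by simp [Hom.one_def]]
      exact mul_one _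
    exact (congr(($h1).left (IsLocalRing.closedPoint k))).trans ha
  have hCe : t.hom.left '' connectedComponent (unitPt G) = connectedComponent q := by
    refine subset_antisymm (hte ▸ t.hom.left.continuous.image_connectedComponent_subset _) fun y hy => ?_
    have hy' := t.inv.left.continuous.mapsTo_connectedComponent _ hy
    rw [← hte, ← Scheme.Hom.comp_apply, ← Over.comp_left, t.hom_inv_id] at hy'
    exact ⟨t.inv.left y, hy', by rw [← Scheme.Hom.comp_apply, ← Over.comp_left, t.inv_hom_id]; rfl⟩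
  rw [← hCe]
  exact (connectedComponent_unit G).1.image _ t.hom.left.continuous.continuousOn

variable [JacobsonSpace G.left]

/-- one affine open for all points of the family in one connected component -/
theorem exists_affine_component (hA : Profinite.IndSplit k A) (f : TA ⟶ G)
    (hrat : ∀ g : G.left, IsClosed ({g} : Set G.left) →
      ∃ x : 𝟙_ (Over (Spec (CommRingCat.of k))) ⟶ G, x.left (IsLocalRing.closedPoint k) = g)
    (p : Spec (CommRingCat.of A)) :
    ∃ W : G.left.Opens, IsAffineOpen W ∧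
      ∀ p', f.left p' ∈ connectedComponent (f.left p) → f.left p' ∈ W := by
  let C := connectedComponent (f.left p)
  obtain ⟨_, ⟨V, hV, rfl⟩, heV, -⟩ :=
    G.left.isBasis_affineOpens.exists_subset_of_mem_open (Set.mem_univ (unitPt G)) isOpen_univ
  obtain ⟨a, ha⟩ := exists_section_apply G hA f p
  have hC : IsIrreducible C := isIrreducible_component G a _ ha
  obtain ⟨ξ, hξ⟩ := QuasiSober.sober hC isClosed_connectedComponent
  -- the difference map on the product
  let Φ : TA ⊗ G ⟶ G := (snd TA G)⁻¹ * (fst TA G ≫ f)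
  let h := (Profinite.isHomeomorph (A := A) G.hom hA).homeomorph
  have hΦ : ∀ (a : TA ⟶ G) (p' : Spec (CommRingCat.of A)),
      (a⁻¹ * f).left p' = Φ.left (h.symm (p', a.left p')) := by
    intro a p'
    have e : lift (𝟙 TA) a ≫ Φ = a⁻¹ * f := by
      rw [MonObj.comp_mul, GrpObj.comp_inv, lift_snd, lift_fst_assoc, Category.id_comp]
    rw [← e, Over.comp_left, Scheme.Hom.comp_apply]
    congr 1
    rw [Homeomorph.eq_symm_apply]
    refine Prod.ext ?_ ?_
    · exact (congr($(lift_fst (𝟙 TA) a).left p'))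
    · exact (congr($(lift_snd (𝟙 TA) a).left p'))
  let O : Set (Spec (CommRingCat.of A) × G.left) := h.symm ⁻¹' (Φ.left ⁻¹' (V : Set G.left))
  have hO : IsOpen O := (V.2.preimage Φ.left.continuous).preimage h.symm.continuous
  let P := f.left ⁻¹' C
  have hP : IsCompact P := (isClosed_connectedComponent.preimage f.left.continuous).isCompact
  let Ω : Set G.left := {x | ∀ p' ∈ P, (p', x) ∈ O}
  have hΩ : IsOpen Ω := by
    rw [isOpen_iff_forall_mem_open]
    intro x hx
    obtain ⟨u, v, -, hv, hPu, hxv, huv⟩ := generalized_tube_lemma hP (isCompact_singleton (x := x)) hO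
      (by rintro ⟨p', y⟩ ⟨hp', rfl⟩; exact hx p' hp')
    exact ⟨v, fun y hy p' hp' => huv ⟨hPu hp', hy⟩, hv, hxv rfl⟩
  have hξΩ : ξ ∈ Ω := fun p' hp' => by
    have hmem : (p', f.left p') ∈ O := by
      show Φ.left (h.symm (p', f.left p')) ∈ (V : Set G.left)
      rw [← hΦ f p', inv_mul_cancel, one_left_apply]
      exact heV
    exact ((hξ.specializes hp').mem_open (hO.preimage (Continuous.prodMk_right p')) hmem)
  obtain ⟨z, hz, hzc⟩ := nonempty_inter_closedPoints ⟨ξ, hξΩ⟩ hΩ.isLocallyClosed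
  obtain ⟨s, hs⟩ := hrat z hzc
  let t := Var76.ActTrans.lTrans s
  haveI : IsIso t.inv.left := ((Over.forget _).mapIso t).isIso_inv
  refine ⟨t.inv.left ⁻¹ᵁ V, hV.preimage_of_isIso t.inv.left, fun p' hp' => ?_⟩
  show t.inv.left (f.left p') ∈ (V : Set G.left)
  have e : f ≫ t.inv = (toUnit TA ≫ s)⁻¹ * f := by
    show f ≫ ((toUnit G ≫ s)⁻¹ * 𝟙 G) = _
    rw [MonObj.comp_mul, GrpObj.comp_inv, Category.comp_id, ← Category.assoc,
      toUnit_unique (f ≫ toUnit G) (toUnit TA)]
  rw [← Scheme.Hom.comp_apply, ← Over.comp_left, e, hΦ]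
  have hsz : (toUnit TA ≫ s).left p' = z := by
    rw [Over.comp_left, Scheme.Hom.comp_apply, ← hs]
    exact congrArg s.left (Subsingleton.elim (α := PrimeSpectrum k) _ _)
  rw [hsz]
  exact hz p' hp'

theorem exists_affineOpen (hA : Profinite.IndSplit k A) (f : TA ⟶ G)
    (hrat : ∀ g : G.left, IsClosed ({g} : Set G.left) →
      ∃ x : 𝟙_ (Over (Spec (CommRingCat.of k))) ⟶ G, x.left (IsLocalRing.closedPoint k) = g) :
    ∃ U : G.left.Opens, IsAffineOpen U ∧ Set.range f.left ⊆ (U : Set G.left) := by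
  classical
  choose Wp hWp hWpC using exists_affine_component G hA f hrat
  let P : Spec (CommRingCat.of A) → Set (Spec (CommRingCat.of A)) :=
    fun p => f.left ⁻¹' connectedComponent (f.left p)
  haveI : IsSeparated G.hom := SGA3a.isSeparated_of_subsingleton G
  haveI : QuasiSeparatedSpace G.left := quasiSeparatedSpace_of_quasiSeparated G.hom
  -- clopens of a quasi-compact open respect the components
  have key : ∀ (W Z : G.left.Opens) (p p' : Spec (CommRingCat.of A)), Set.range f.left ⊆ (W : Set G.left) →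
      IsClosed (Subtype.val ⁻¹' (Z : Set G.left) : Set (W : Set G.left)) → f.left p ∈ Z → p' ∈ P p →
      f.left p' ∈ Z := by
    intro W Z p p' hW hZ hpZ hp'
    have hirr : IsPreirreducible (connectedComponent (f.left p)) := by
      obtain ⟨a, ha⟩ := exists_section_apply G hA f p
      exact (isIrreducible_component G a _ ha).2
    have hpre : IsPreirreducible (Subtype.val ⁻¹' connectedComponent (f.left p) : Set (W : Set G.left)) :=
      hirr.preimage W.2.isOpenEmbedding_subtypeVal
    exact hpre.isPreconnected.subset_isClopen ⟨hZ, Z.2.preimage continuous_subtype_val⟩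
      ⟨⟨f.left p, hW ⟨p, rfl⟩⟩, mem_connectedComponent, hpZ⟩ (a := ⟨f.left p', hW ⟨p', rfl⟩⟩) hp'
  -- a clopen of a quasi-compact open around one component
  have sep : ∀ (W : G.left.Opens) (p : Spec (CommRingCat.of A)) (O : G.left.Opens), IsCompact (W : Set G.left) →
      Set.range f.left ⊆ (W : Set G.left) → (∀ p' ∈ P p, f.left p' ∈ O) →
      ∃ Z : G.left.Opens, IsClosed (Subtype.val ⁻¹' (Z : Set G.left) : Set (W : Set G.left)) ∧
        f.left p ∈ Z ∧ ∀ p', f.left p' ∈ Z → f.left p' ∈ O := by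
    intro W p O hWc hW hO
    haveI : CompactSpace (W : Set G.left) := isCompact_iff_compactSpace.1 hWc
    haveI : QuasiSeparatedSpace (W : Set G.left) :=
      QuasiSeparatedSpace.of_isOpenEmbedding W.2.isOpenEmbedding_subtypeVal
    haveI : PrespectralSpace (W : Set G.left) :=
      W.2.isOpenEmbedding_subtypeVal.prespectralSpace
    let g : Spec (CommRingCat.of A) → (W : Set G.left) := fun p' => ⟨f.left p', hW ⟨p', rfl⟩⟩
    have hg : Continuous g := f.left.continuous.subtype_mk _
    have hcc : g ⁻¹' connectedComponent (g p) ⊆ f.left ⁻¹' (O : Set G.left) := fun p' hp' =>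
      hO p' (continuous_subtype_val.mapsTo_connectedComponent _ hp')
    rw [Spec91.connectedComponent_eq_iInter, Set.preimage_iInter] at hcc
    have hK : IsCompact (f.left ⁻¹' (O : Set G.left))ᶜ := (O.2.preimage f.left.continuous).isClosed_compl.isCompact
    haveI : Nonempty { s : Set (W : Set G.left) // IsClopen s ∧ g p ∈ s } :=
      ⟨⟨Set.univ, isClopen_univ, trivial⟩⟩
    obtain ⟨Z, hZ⟩ := hK.elim_directed_family_closed
      (fun s : { s : Set (W : Set G.left) // IsClopen s ∧ g p ∈ s } => g ⁻¹' (s : Set (W : Set G.left)))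
      (fun s => s.2.1.1.preimage hg)
      (Set.eq_empty_iff_forall_notMem.2 fun x ⟨hx1, hx2⟩ => hx1 (hcc hx2))
      (fun s t => ⟨⟨s.1 ∩ t.1, s.2.1.inter t.2.1, s.2.2, t.2.2⟩,
        fun x hx => hx.1, fun x hx => hx.2⟩)
    obtain ⟨Zs, hZc, hZp⟩ := Z
    refine ⟨⟨Subtype.val '' Zs, W.2.isOpenEmbedding_subtypeVal.isOpenMap _ hZc.2⟩, ?_, ⟨g p, hZp, rfl⟩, ?_⟩
    · show IsClosed (Subtype.val ⁻¹' (Subtype.val '' Zs) : Set (W : Set G.left))
      rw [Set.preimage_image_eq _ Subtype.val_injective]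
      exact hZc.1
    · rintro p' ⟨w, hw, hwp⟩
      by_contra hp'
      have : g p' ∈ Zs := by rwa [show g p' = w from Subtype.ext hwp.symm]
      exact (Set.eq_empty_iff_forall_notMem.1 hZ) p' ⟨hp', this⟩
  -- a quasi-compact open containing all the points
  obtain ⟨F, hF⟩ := (isCompact_range f.left.continuous).elim_finite_subcover
    (fun p => (Wp p : Set G.left)) (fun p => (Wp p).2)
    (by rintro _ ⟨p, rfl⟩; exact Set.mem_iUnion.2 ⟨p, hWpC p p mem_connectedComponent⟩)
  let W0 : G.left.Opens := ⨆ p ∈ F, Wp p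
  have hW0 : Set.range f.left ⊆ (W0 : Set G.left) := fun y hy => by
    simpa [W0] using hF hy
  have hW0c : IsCompact (W0 : Set G.left) := by
    simpa [W0] using F.isCompact_biUnion fun p _ => (hWp p).isCompact
  -- finitely many affines suffice for all components
  have hcl : ∀ p, ∃ T : Set (Spec (CommRingCat.of A)), IsOpen T ∧ p ∈ T ∧
      ∀ p' ∈ T, ∀ p'' ∈ P p', f.left p'' ∈ Wp p := by
    intro p
    have hc : IsCompact ((W0 ⊔ Wp p : G.left.Opens) : Set G.left) := by
      simpa using hW0c.union (hWp p).isCompact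
    have hr : Set.range f.left ⊆ ((W0 ⊔ Wp p : G.left.Opens) : Set G.left) := fun y hy => Or.inl (hW0 hy)
    obtain ⟨Z, hZc, hpZ, hZO⟩ := sep _ p (Wp p) hc hr (hWpC p)
    exact ⟨f.left ⁻¹' (Z : Set G.left), Z.2.preimage f.left.continuous, hpZ,
      fun p' hp' p'' hp'' => hZO p'' (key _ Z p' p'' hr hZc hp' hp'')⟩
  choose T hTo hpT hT using hcl
  obtain ⟨J, hJ⟩ := isCompact_univ.elim_finite_subcover T hTo (fun p _ => Set.mem_iUnion.2 ⟨p, hpT p⟩)
  let W1 : G.left.Opens := W0 ⊔ ⨆ j ∈ J, Wp j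
  have hW1 : Set.range f.left ⊆ (W1 : Set G.left) := fun y hy => Or.inl (hW0 hy)
  have hW1c : IsCompact (W1 : Set G.left) := by
    simpa [W1] using hW0c.union (J.isCompact_biUnion fun p _ => (hWp p).isCompact)
  have hloc : ∀ p, ∃ j ∈ J, ∃ Z : G.left.Opens,
      IsClosed (Subtype.val ⁻¹' (Z : Set G.left) : Set (W1 : Set G.left)) ∧ f.left p ∈ Z ∧
        ∀ p', f.left p' ∈ Z → f.left p' ∈ Wp j := by
    intro p
    obtain ⟨j, hj, hpj⟩ := Set.mem_iUnion₂.1 (hJ (Set.mem_univ p))
    exact ⟨j, hj, sep W1 p (Wp j) hW1c hW1 (hT j p hpj)⟩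
  choose jf hjf Zf hZfc hpZf hZfW using hloc
  obtain ⟨L, hL⟩ := isCompact_univ.elim_finite_subcover (fun p => f.left ⁻¹' (Zf p : Set G.left))
    (fun p => (Zf p).2.preimage f.left.continuous) (fun p _ => Set.mem_iUnion.2 ⟨p, hpZf p⟩)
  obtain ⟨n, ⟨e⟩⟩ := Finite.exists_equiv_fin L
  let w : Fin n → Spec (CommRingCat.of A) := fun i => (e.symm i).1
  let Wc : Fin n → Set (W1 : Set G.left) := fun i => Subtype.val ⁻¹' (Zf (w i) : Set G.left)
  let Dc : Fin n → Set (W1 : Set G.left) := fun i => Wc i \ ⋃ l : {l : Fin n // l < i}, Wc l.1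
  have hWc : ∀ i, IsClopen (Wc i) := fun i => ⟨hZfc (w i), (Zf (w i)).2.preimage continuous_subtype_val⟩
  have hDc : ∀ i, IsClopen (Dc i) := fun i => (hWc i).diff (isClopen_iUnion_of_finite fun l => hWc l.1)
  let D : Fin n → G.left.Opens := fun i =>
    Wp (jf (w i)) ⊓ ⟨Subtype.val '' Dc i, W1.2.isOpenEmbedding_subtypeVal.isOpenMap _ (hDc i).2⟩
  refine ⟨⨆ i, D i, IsAffineOpen.iSup_of_disjoint (fun i => ?_) fun i l hil => ?_, ?_⟩
  · have hle : Wp (jf (w i)) ≤ W1 := le_sup_of_le_right (le_iSup₂_of_le _ (hjf (w i)) le_rfl)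
    refine isAffineOpen_inf_of_isClosed (hWp _) _ ?_
    have : (Subtype.val ⁻¹' (Subtype.val '' Dc i) : Set (Wp (jf (w i)) : Set G.left)) =
        (fun y : (Wp (jf (w i)) : Set G.left) => (⟨y.1, hle y.2⟩ : (W1 : Set G.left))) ⁻¹' Dc i := by
      ext y
      exact ⟨fun ⟨y', hy', e⟩ => by rwa [Set.mem_preimage, show (⟨y.1, _⟩ : (W1 : Set G.left)) = y' from Subtype.ext e.symm],
        fun hy => ⟨_, hy, rfl⟩⟩
    show IsClosed (Subtype.val ⁻¹' (Subtype.val '' Dc i) : Set (Wp (jf (w i)) : Set G.left))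
    rw [this]
    exact (hDc i).1.preimage (continuous_subtype_val.subtype_mk _)
  · rw [Function.onFun, ← TopologicalSpace.Opens.coe_disjoint, Set.disjoint_left]
    rintro _ ⟨-, y, hy, rfl⟩ ⟨-, y', hy', e'⟩
    rw [Subtype.ext e'] at hy'
    rcases lt_or_gt_of_ne hil with h | h
    · exact hy'.2 (Set.mem_iUnion.2 ⟨⟨i, h⟩, hy.1⟩)
    · exact hy.2 (Set.mem_iUnion.2 ⟨⟨l, h⟩, hy'.1⟩)
  · rintro _ ⟨p, rfl⟩
    obtain ⟨x, hx, hxp⟩ := Set.mem_iUnion₂.1 (hL (Set.mem_univ p))
    let y : (W1 : Set G.left) := ⟨f.left p, hW1 ⟨p, rfl⟩⟩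
    have hex : ∃ i, y ∈ Wc i := ⟨e ⟨x, hx⟩, by show f.left p ∈ Zf (w _); simpa [w] using hxp⟩
    let I := (Finset.univ.filter fun i => y ∈ Wc i).min' ⟨hex.choose, by simpa using hex.choose_spec⟩
    have hI : y ∈ Wc I :=
      (Finset.mem_filter.1 (Finset.min'_mem (Finset.univ.filter fun i => y ∈ Wc i) ⟨hex.choose, by simpa using hex.choose_spec⟩)).2
    refine TopologicalSpace.Opens.mem_iSup.2 ⟨I, hZfW (w I) p hI, y, ⟨hI, ?_⟩, rfl⟩
    rw [Set.mem_iUnion]
    rintro ⟨⟨l, hl⟩, hly⟩
    exact not_le.2 hl (Finset.min'_le _ _ (by simpa using hly))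

end Groth.Agent.Grp57.ProfiniteNhd
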