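import Groth.Agent.Cartier57.Stalk
import Mathlib.Algebra.TrivSqZeroExt.Basic
import Mathlib.Algebra.TrivSqZeroExt.Ideal
import Mathlib.CategoryTheory.Monoidal.Cartesian.Grp
import Mathlib.RingTheory.Ideal.Cotangent
import Mathlib.LinearAlgebra.Dual.Lemmas

/-!
Tangent vectors at the unit of a group scheme over a field; powers act by multiplication.
-/

set_option autoImplicit false
set_option linter.style.haveILetI false

noncomputable section

universe u

open CategoryTheory CategoryTheory.Limits MonoidalCategory CartesianMonoidalCategory MonObj GrpObj AlgebraicGeometry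
open TrivSqZeroExt IsLocalRing

namespace Groth.Agent.Grp57.Tangent

variable {K : Type u} [Field K] (G : Over (Spec (CommRingCat.of K))) [GrpObj G]

local notation "O" => G.left.presheaf.stalk (Grp57.unitPt G)
local notation "ev" => Cartier57.evalMap G
local notation "str" => Cartier57.strMap G

theorem ev_str (c : K) : ev (str c) = c := congr($(Cartier57.strMap_evalMap G) c)

/-- an `M`-valued tangent vector at the unit -/
@[ext]
structure Tan (M : Type u) [AddCommGroup M] [Module K M] where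
  toFun : O → M
  map_add : ∀ a b, toFun (a + b) = toFun a + toFun b
  map_mul : ∀ a b, toFun (a * b) = (show K from ev a) • toFun b + (show K from ev b) • toFun a
  map_const : ∀ c : K, toFun (str c) = 0

variable {M N : Type u} [AddCommGroup M] [Module K M] [AddCommGroup N] [Module K N]
  [Module Kᵐᵒᵖ M] [IsCentralScalar K M] [Module Kᵐᵒᵖ N] [IsCentralScalar K N]

instance isLocalRing_tsze : IsLocalRing (TrivSqZeroExt K M) := by
  have : Nontrivial (TrivSqZeroExt K M) := TrivSqZeroExt.fst_surjective.nontrivial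
  refine .of_isUnit_or_isUnit_one_sub_self fun a => ?_
  rw [TrivSqZeroExt.isUnit_iff_isUnit_fst, TrivSqZeroExt.isUnit_iff_isUnit_fst]
  simpa using IsLocalRing.isUnit_or_isUnit_one_sub_self a.fst

/-- constants -/
abbrev base (M : Type u) [AddCommGroup M] [Module K M] [Module Kᵐᵒᵖ M] [IsCentralScalar K M] :
    CommRingCat.of K ⟶ CommRingCat.of (TrivSqZeroExt K M) :=
  CommRingCat.ofHom (inlHom K M)

variable {G}

omit [Module Kᵐᵒᵖ M] [IsCentralScalar K M] in
theorem Tan.map_zero (ℓ : Tan G M) : ℓ.toFun 0 = 0 := by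
  simpa using ℓ.map_add 0 0

omit [Module Kᵐᵒᵖ M] [IsCentralScalar K M] in
theorem Tan.map_one (ℓ : Tan G M) : ℓ.toFun 1 = 0 := by
  simpa using ℓ.map_mul 1 1

/-- the ring map of a tangent vector -/
def Tan.hom (ℓ : Tan G M) : O ⟶ CommRingCat.of (TrivSqZeroExt K M) :=
  CommRingCat.ofHom
  { toFun := fun a => inl (show K from ev a) + inr (ℓ.toFun a)
    map_one' := by
      refine TrivSqZeroExt.ext ?_ ?_
      · simp only [fst_add, fst_inl, fst_inr, add_zero, fst_one]; exact (ev).hom.map_one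
      · simp only [snd_add, snd_inl, snd_inr, snd_one, snd_zero, zero_add]; exact ℓ.map_one
    map_mul' := fun a b => by
      refine TrivSqZeroExt.ext ?_ ?_
      · simp only [fst_add, fst_inl, fst_inr, add_zero, fst_mul]; exact (ev).hom.map_mul a b
      · simp only [snd_add, snd_inl, snd_inr, zero_add, snd_mul, fst_add, fst_inl, fst_inr, add_zero, op_smul_eq_smul]; exact ℓ.map_mul a b
    map_zero' := by
      refine TrivSqZeroExt.ext ?_ ?_
      · simp only [fst_add, fst_inl, fst_inr, add_zero, fst_zero]; exact (ev).hom.map_zero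
      · simp only [snd_add, snd_inl, snd_inr, snd_one, snd_zero, zero_add]; exact ℓ.map_zero
    map_add' := fun a b => by
      refine TrivSqZeroExt.ext ?_ ?_
      · simp only [fst_add, fst_inl, fst_inr, add_zero]; exact (ev).hom.map_add a b
      · simp only [snd_add, snd_inl, snd_inr, snd_one, snd_zero, zero_add]; exact ℓ.map_add a b }

theorem fst_hom (ℓ : Tan G M) (a : O) : (ℓ.hom a).fst = ev a := by
  show (inl (show K from ev a) + inr (ℓ.toFun a) : TrivSqZeroExt K M).fst = _
  simp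

theorem snd_hom (ℓ : Tan G M) (a : O) : (ℓ.hom a).snd = ℓ.toFun a := by
  show (inl (show K from ev a) + inr (ℓ.toFun a) : TrivSqZeroExt K M).snd = _
  simp

theorem str_hom (ℓ : Tan G M) : str ≫ ℓ.hom = base M := by
  refine CommRingCat.hom_ext (RingHom.ext fun c => TrivSqZeroExt.ext ?_ ?_)
  · show (ℓ.hom (str c)).fst = (inl c : TrivSqZeroExt K M).fst
    rw [fst_hom, ev_str, fst_inl]
  · show (ℓ.hom (str c)).snd = (inl c : TrivSqZeroExt K M).snd
    rw [snd_hom, ℓ.map_const, snd_inl]

/-- the point of a tangent vector -/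
def Tan.pt (ℓ : Tan G M) : Over.mk (Spec.map (base (K := K) M)) ⟶ G :=
  Cartier57.point G ℓ.hom (base (K := K) M) (str_hom ℓ)

theorem pt_injective {ℓ ℓ' : Tan G M} (h : ℓ.pt = ℓ'.pt) : ℓ = ℓ' := by
  have h1 : ℓ.hom = ℓ'.hom := Cartier57.eq_of_specMap_comp (congrArg CommaMorphism.left h)
  ext a
  rw [← snd_hom, h1, snd_hom]

/-- the zero tangent vector -/
def Tan.zero : Tan G M := ⟨fun _ => 0, fun _ _ => by simp, fun _ _ => by simp, fun _ => rfl⟩

theorem pt_zero : (Tan.zero : Tan G M).pt = 1 := by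
  refine Cartier57.point_eq_one G _ _ _ (CommRingCat.hom_ext (RingHom.ext fun a => TrivSqZeroExt.ext ?_ ?_))
  · show (inl (show K from ev a) : TrivSqZeroExt K M).fst = ((Tan.zero : Tan G M).hom a).fst
    rw [fst_hom, fst_inl]
  · show (inl (show K from ev a) : TrivSqZeroExt K M).snd = ((Tan.zero : Tan G M).hom a).snd
    rw [snd_hom, snd_inl]
    rfl

/-- functoriality in the values -/
def Tan.comp (f : M →ₗ[K] N) (ℓ : Tan G M) : Tan G N :=
  ⟨fun a => f (ℓ.toFun a), fun a b => by simp [ℓ.map_add], fun a b => by simp [ℓ.map_mul],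
    fun c => by simp [ℓ.map_const]⟩

/-- the map of spectra induced by a linear map -/
def along (f : M →ₗ[K] N) : Over.mk (Spec.map (base (K := K) N)) ⟶ Over.mk (Spec.map (base (K := K) M)) :=
  Over.homMk (Spec.map (CommRingCat.ofHom (TrivSqZeroExt.map (R' := K) (M := M) (N := N) f).toRingHom)) (by
    show Spec.map _ ≫ Spec.map _ = Spec.map _
    rw [← Spec.map_comp]
    congr 1
    exact CommRingCat.hom_ext (RingHom.ext fun c => map_inl f c))

theorem along_pt (f : M →ₗ[K] N) (ℓ : Tan G M) : along f ≫ ℓ.pt = (ℓ.comp f).pt := by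
  apply Over.OverMorphism.ext
  show Spec.map _ ≫ Spec.map ℓ.hom ≫ G.left.fromSpecStalk _ = Spec.map (ℓ.comp f).hom ≫ _
  rw [← Category.assoc, ← Spec.map_comp]
  congr 2
  refine CommRingCat.hom_ext (RingHom.ext fun a => TrivSqZeroExt.ext ?_ ?_)
  · show (TrivSqZeroExt.map f (ℓ.hom a)).fst = ((ℓ.comp f).hom a).fst
    rw [fst_map, fst_hom, fst_hom]
  · show (TrivSqZeroExt.map f (ℓ.hom a)).snd = ((ℓ.comp f).hom a).snd
    rw [snd_map, snd_hom, snd_hom]
    rfl

/-- addition of scalar valued tangent vectors -/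
def Tan.add (ℓ ℓ' : Tan G K) : Tan G K :=
  ⟨fun a => ℓ.toFun a + ℓ'.toFun a, fun a b => by simp [ℓ.map_add, ℓ'.map_add]; ring,
    fun a b => by simp [ℓ.map_mul, ℓ'.map_mul]; ring, fun c => by simp [ℓ.map_const, ℓ'.map_const]⟩

theorem pt_add (ℓ ℓ' : Tan G K) : (ℓ.add ℓ').pt = ℓ.pt * ℓ'.pt := by
  let i₁ := LinearMap.inl K K K
  let i₂ := LinearMap.inr K K K
  let p₁ := LinearMap.fst K K K
  let p₂ := LinearMap.snd K K K
  let z : Over.mk (Spec.map (base (K := K) (K × K))) ⟶ G := (ℓ.comp i₁).pt * (ℓ'.comp i₂).pt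
  have hz : ∀ f : K × K →ₗ[K] K,
      along f ≫ z = ((ℓ.comp i₁).comp f).pt * ((ℓ'.comp i₂).comp f).pt := fun f => by
    rw [MonObj.comp_mul, along_pt, along_pt]
  have h11 : (ℓ.comp i₁).comp p₁ = ℓ := rfl
  have h12 : (ℓ'.comp i₂).comp p₁ = Tan.zero := rfl
  have h21 : (ℓ.comp i₁).comp p₂ = Tan.zero := rfl
  have h22 : (ℓ'.comp i₂).comp p₂ = ℓ' := rfl
  have hs1 : (ℓ.comp i₁).comp (p₁ + p₂) = ℓ := Tan.ext (funext fun a => add_zero _)
  have hs2 : (ℓ'.comp i₂).comp (p₁ + p₂) = ℓ' := Tan.ext (funext fun a => zero_add _)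
  have hz1 : along p₁ ≫ z = ℓ.pt := by rw [hz, h11, h12, pt_zero, _root_.mul_one]
  have hz2 : along p₂ ≫ z = ℓ'.pt := by rw [hz, h21, h22, pt_zero, _root_.one_mul]
  have hzs : along (p₁ + p₂) ≫ z = ℓ.pt * ℓ'.pt := by rw [hz, hs1, hs2]
  have hpt : z.left (IsLocalRing.closedPoint (TrivSqZeroExt K (K × K))) = Grp57.unitPt G := by
    have h2 : (along p₁).left (IsLocalRing.closedPoint (TrivSqZeroExt K K)) =
        IsLocalRing.closedPoint (TrivSqZeroExt K (K × K)) := by
      have : IsLocalHom (TrivSqZeroExt.map p₁).toRingHom := ⟨fun a ha => by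
        rw [TrivSqZeroExt.isUnit_iff_isUnit_fst] at ha ⊢
        simpa using ha⟩
      exact Spec_closedPoint (f := CommRingCat.ofHom (TrivSqZeroExt.map p₁).toRingHom)
    rw [← h2]
    refine (congr($(congrArg CommaMorphism.left hz1) (IsLocalRing.closedPoint (TrivSqZeroExt K K)))).trans ?_
    have : IsLocalHom ℓ.hom.hom := by
      have := (inferInstance : IsLocalRing O)
      refine ⟨fun a ha => ?_⟩
      rw [TrivSqZeroExt.isUnit_iff_isUnit_fst, fst_hom] at ha
      have hmax : RingHom.ker (ev).hom = maximalIdeal O :=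
        IsLocalRing.eq_maximalIdeal (RingHom.ker_isMaximal_of_surjective _ fun c => ⟨str c, ev_str G c⟩)
      by_contra hu
      have : a ∈ RingHom.ker (ev).hom := hmax ▸ hu
      exact ha.ne_zero this
    show G.left.fromSpecStalk _ (Spec.map ℓ.hom (closedPoint _)) = _
    rw [show Spec.map ℓ.hom (closedPoint (TrivSqZeroExt K K)) = closedPoint O from Spec_closedPoint]
    exact Scheme.fromSpecStalk_closedPoint
  obtain ⟨ψ, hψ⟩ := Cartier57.exists_stalk_lift (R := CommRingCat.of (TrivSqZeroExt K (K × K))) z.left hpt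
  have key : ∀ (f : K × K →ₗ[K] K) (m : Tan G K), along f ≫ z = m.pt →
      ψ ≫ CommRingCat.ofHom (TrivSqZeroExt.map f).toRingHom = m.hom := fun f m h => by
    refine Cartier57.eq_of_specMap_comp ?_
    rw [Spec.map_comp, Category.assoc, hψ]
    exact congrArg CommaMorphism.left h
  have h1 := key p₁ ℓ hz1
  have h2 := key p₂ ℓ' hz2
  have h3 : ψ ≫ CommRingCat.ofHom (TrivSqZeroExt.map (p₁ + p₂)).toRingHom = (ℓ.add ℓ').hom := by
    refine CommRingCat.hom_ext (RingHom.ext fun a => TrivSqZeroExt.ext ?_ ?_)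
    · show (TrivSqZeroExt.map (p₁ + p₂) (ψ a)).fst = ((ℓ.add ℓ').hom a).fst
      rw [fst_map, fst_hom, ← fst_hom ℓ a, ← congr($h1 a)]
      exact (fst_map p₁ (ψ a)).symm
    · show (TrivSqZeroExt.map (p₁ + p₂) (ψ a)).snd = ((ℓ.add ℓ').hom a).snd
      rw [snd_map, snd_hom, LinearMap.add_apply]
      show _ = ℓ.toFun a + ℓ'.toFun a
      rw [← snd_hom ℓ a, ← snd_hom ℓ' a, ← congr($h1 a), ← congr($h2 a)]
      exact congrArg₂ (· + ·) (snd_map p₁ (ψ a)).symm (snd_map p₂ (ψ a)).symm
  refine Eq.trans ?_ hzs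
  apply Over.OverMorphism.ext
  show Spec.map (ℓ.add ℓ').hom ≫ _ = Spec.map _ ≫ z.left
  rw [← h3, Spec.map_comp, Category.assoc, hψ]

/-- multiples -/
def Tan.smul (c : K) (ℓ : Tan G K) : Tan G K := ℓ.comp (c • LinearMap.id)

theorem pt_zpow (ℓ : Tan G K) (d : ℤ) : (ℓ.smul (d : K)).pt = ℓ.pt ^ d := by
  have hadd : ∀ c c' : K, (ℓ.smul (c + c')).pt = (ℓ.smul c).pt * (ℓ.smul c').pt := fun c c' => by
    rw [← pt_add]
    congr 1
    ext a
    show (c + c') • ℓ.toFun a = c • ℓ.toFun a + c' • ℓ.toFun a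
    rw [add_smul]
  have h1 : (ℓ.smul 1).pt = ℓ.pt := congrArg Tan.pt (Tan.ext (funext fun a => one_smul K _))
  have h0 : (ℓ.smul 0).pt = 1 := by
    rw [← pt_zero]
    exact congrArg Tan.pt (Tan.ext (funext fun a => zero_smul K _))
  have hneg : (ℓ.smul (-1)).pt = ℓ.pt⁻¹ :=
    eq_inv_of_mul_eq_one_left (by rw [← h1, ← hadd, neg_add_cancel, h0])
  induction d using Int.induction_on with
  | zero => rw [Int.cast_zero, h0, zpow_zero]
  | succ n ih => rw [Int.cast_add, Int.cast_one, hadd, ih, h1, zpow_add, zpow_one]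
  | pred n ih => rw [Int.cast_sub, Int.cast_one, sub_eq_add_neg (G := K), hadd, ih, hneg, zpow_sub_one]

/-- an endomorphism fixing the unit, on the local ring there -/
theorem exists_localMap (d : ℤ) :
    ∃ φ : O ⟶ O, Spec.map φ ≫ G.left.fromSpecStalk (Grp57.unitPt G) =
        G.left.fromSpecStalk (Grp57.unitPt G) ≫ (𝟙 G ^ d : G ⟶ G).left ∧
      ∀ (ℓ : Tan G K) a, ℓ.toFun (φ a) = (d : K) • ℓ.toFun a := by
  have he : η[G] ≫ (𝟙 G ^ d : G ⟶ G) = η[G] := by
    have h1 : η[G] ≫ (𝟙 G ^ d : G ⟶ G) = (η[G]) ^ d := by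
      have := map_zpow ({ toFun := fun x => η[G] ≫ x
                          map_one' := MonObj.comp_one _
                          map_mul' := fun x y => MonObj.comp_mul _ _ _ } : (G ⟶ G) →* (𝟙_ _ ⟶ G)) (𝟙 G) d
      simpa using this
    rw [h1, show (η[G] : 𝟙_ _ ⟶ G) = 1 by simp [Hom.one_def], one_zpow]
  have hpt : (G.left.fromSpecStalk (Grp57.unitPt G) ≫ (𝟙 G ^ d : G ⟶ G).left) (closedPoint O) = Grp57.unitPt G := by
    erw [Scheme.Hom.comp_apply, Scheme.fromSpecStalk_closedPoint]
    exact congr(($he).left (closedPoint K))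
  obtain ⟨φ, hφ⟩ := Cartier57.exists_stalk_lift (R := O) _ hpt
  have hφev : φ ≫ ev = ev := Cartier57.eq_of_specMap_comp (by
    rw [Spec.map_comp, Category.assoc, hφ, ← Category.assoc, Cartier57.evalMap_spec]
    exact congrArg CommaMorphism.left he)
  have hφstr : str ≫ φ = str := by
    apply Spec.map_injective
    rw [Spec.map_comp, Cartier57.strMap, Spec.map_preimage, ← Category.assoc, hφ, Category.assoc]
    congr 1
    exact Over.w _
  refine ⟨φ, hφ, fun ℓ a => ?_⟩
  let m : Tan G K := ⟨fun a => ℓ.toFun (φ a), fun a b => by rw [map_add, ℓ.map_add],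
    fun a b => by
      rw [map_mul, ℓ.map_mul]
      rw [show ev (φ a) = ev a from congr($hφev a), show ev (φ b) = ev b from congr($hφev b)],
    fun c => by rw [show φ (str c) = str c from congr($hφstr c), ℓ.map_const]⟩
  have h2 : ℓ.pt ≫ (𝟙 G ^ d : G ⟶ G) = m.pt := by
    apply Over.OverMorphism.ext
    show (Spec.map ℓ.hom ≫ _) ≫ _ = Spec.map m.hom ≫ _
    rw [Category.assoc, ← hφ, ← Category.assoc, ← Spec.map_comp]
    congr 2
    refine CommRingCat.hom_ext (RingHom.ext fun a => TrivSqZeroExt.ext ?_ ?_)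
    · show (ℓ.hom (φ a)).fst = (m.hom a).fst
      rw [fst_hom, fst_hom]; exact congr($hφev a)
    · show (ℓ.hom (φ a)).snd = (m.hom a).snd
      rw [snd_hom, snd_hom]
  have h3 : ℓ.pt ≫ (𝟙 G ^ d : G ⟶ G) = ℓ.pt ^ d := by
    have := map_zpow ({ toFun := fun x => ℓ.pt ≫ x
                        map_one' := MonObj.comp_one _
                        map_mul' := fun x y => MonObj.comp_mul _ _ _ } : (G ⟶ G) →* (_ ⟶ G)) (𝟙 G) d
    simpa using this
  have := pt_injective ((h2.symm.trans h3).trans (pt_zpow ℓ d).symm)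
  exact congrFun (congrArg Tan.toFun this) a

/-- the `d`-th power is unramified at the unit iff `d ≠ 0` in the field, unless the tangent space vanishes -/
theorem map_maximalIdeal_of_ne_zero [IsNoetherianRing O] (d : ℤ) (hd : (d : K) ≠ 0) (φ : O ⟶ O)
    (hloc : IsLocalHom φ.hom)
    (h : ∀ (ℓ : Tan G K) a, ℓ.toFun (φ a) = (d : K) • ℓ.toFun a) :
    (maximalIdeal O).map φ.hom = maximalIdeal O := by
  letI : Algebra K O := (str).hom.toAlgebra
  have hker : RingHom.ker (ev).hom = maximalIdeal O :=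
    IsLocalRing.eq_maximalIdeal (RingHom.ker_isMaximal_of_surjective _ fun c => ⟨str c, ev_str G c⟩)
  have hres : ∀ a, a - str (ev a) ∈ maximalIdeal O := fun a => by
    rw [← hker, RingHom.mem_ker, map_sub, ev_str, sub_self]
  have hle : (maximalIdeal O).map φ.hom ≤ maximalIdeal O :=
    ((IsLocalRing.local_hom_TFAE φ.hom).out 0 2).1 hloc
  refine le_antisymm hle ?_
  suffices h1 : maximalIdeal O ≤ (maximalIdeal O).map φ.hom ⊔ maximalIdeal O • maximalIdeal O from
    Submodule.le_of_le_smul_of_le_jacobson_bot (maximalIdeal O).fg_of_isNoetherianRing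
      (maximalIdeal_le_jacobson _) h1
  intro x hx
  by_contra hx'
  let J : Submodule K O := ((maximalIdeal O).map φ.hom ⊔ maximalIdeal O • maximalIdeal O).restrictScalars K
  obtain ⟨g, hgx, hgJ⟩ := Submodule.exists_dual_map_eq_bot_of_notMem (p := J) hx' inferInstance
  have hg0 : ∀ y ∈ J, g y = 0 := fun y hy => by
    have : g y ∈ J.map g := ⟨y, hy, rfl⟩
    rwa [hgJ, Submodule.mem_bot] at this
  let ℓ : Tan G K :=
    { toFun := fun a => g (a - str (ev a))
      map_add := fun a b => by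
        rw [← g.map_add]; congr 1; simp only [map_add]; ring
      map_mul := fun a b => by
        set a' := a - str (ev a)
        set b' := b - str (ev b)
        have h0 : g (a' * b') = 0 :=
          hg0 _ (Submodule.mem_sup_right (Submodule.smul_mem_smul (hres a) (hres b)))
        have e : a * b - str (ev (a * b)) = (show K from ev a) • b' + (show K from ev b) • a' + a' * b' := by
          simp only [Algebra.smul_def, a', b', map_mul]
          show _ = str (ev a) * _ + str (ev b) * _ + _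
          ring
        rw [e, g.map_add, g.map_add, h0, add_zero, g.map_smul, g.map_smul]
      map_const := fun c => by rw [ev_str, sub_self, g.map_zero] }
  have hev0 : ∀ y, y ∈ maximalIdeal O → ℓ.toFun y = g y := fun y hy => by
    show g (y - str (ev y)) = g y
    rw [← hker, RingHom.mem_ker] at hy
    rw [show (ev) y = 0 from hy]
    congr 1
    rw [show str (0 : K) = 0 from (str).hom.map_zero, sub_zero]
  apply hgx
  rw [← hev0 x hx]
  have h2 := h ℓ x
  rw [hev0 _ (hle (Ideal.mem_map_of_mem _ hx)),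
    hg0 _ (Submodule.mem_sup_left (Ideal.mem_map_of_mem _ hx))] at h2
  exact (smul_eq_zero.1 h2.symm).resolve_left hd

theorem maximalIdeal_le_sq_of_zero (d : ℤ) (hd : (d : K) = 0) (φ : O ⟶ O)
    (h : ∀ (ℓ : Tan G K) a, ℓ.toFun (φ a) = (d : K) • ℓ.toFun a)
    (hmax : (maximalIdeal O).map φ.hom = maximalIdeal O) (ℓ : Tan G K) :
    ∀ a ∈ maximalIdeal O, ℓ.toFun a = 0 := by
  intro a ha
  have hker : RingHom.ker (ev).hom = maximalIdeal O :=
    IsLocalRing.eq_maximalIdeal (RingHom.ker_isMaximal_of_surjective _ fun c => ⟨str c, ev_str G c⟩)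
  rw [← hmax, Ideal.map] at ha
  induction ha using Submodule.span_induction with
  | mem y hy =>
    obtain ⟨y, -, rfl⟩ := hy
    refine (h ℓ y).trans ?_
    rw [hd, zero_smul]
  | zero => exact ℓ.map_zero
  | add y z _ _ hy hz => rw [ℓ.map_add, hy, hz, add_zero]
  | smul c y hy' hy =>
    rw [smul_eq_mul, ℓ.map_mul, hy, smul_zero, zero_add]
    have : y ∈ RingHom.ker (ev).hom := by
      rw [hker, ← hmax]; exact hy'
    rw [show (ev) y = 0 from this]
    exact zero_smul K _

end Groth.Agent.Grp57.Tangent
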